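import Groth.Prelude.Def_W4c5m1nsnscurvesC
import Groth.Prelude.Def_W4c5m1nsnscurvesI
import Mathlib

/-!
# Relations of `U_n` as equations, and maps out of `U_n`
-/

universe u v

namespace Groth.Agent.M1CurvLib

open W4c5m1nsnscurves MvPolynomial

variable {R : Type u} [CommRing R] {m : ℕ} {S : Type v} [CommRing S]

/-- `g` satisfies the relations of `U_n`. -/
structure Sat (g : UGen m → S) : Prop where
  lin : ∀ i j (h : i ≠ j), g (.cij i j h) + g (.cij j i h.symm) =
    g .a + g (.ci i) + g (.cbi i) + g (.ci j) + g (.cbi j)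
  quad : ∀ i j (h : i ≠ j), g (.cij j i h.symm) * g (.ci j) + g (.cij i j h) * g (.ci i) -
    g (.ci i) * g (.ci j) = g .c
  quadb : ∀ i j (h : i ≠ j), g (.cij j i h.symm) * g (.cbi i) + g (.cij i j h) * g (.cbi j) -
    g (.cbi i) * g (.cbi j) = g .cb
  tri : ∀ i j l (hij : i ≠ j) (hjl : j ≠ l) (hil : i ≠ l),
    g (.cij i j hij) * g (.cij j l hjl) + g (.cij j i hij.symm) * g (.cij i l hil) -
      g (.cij i l hil) * g (.cij j l hjl) + (g .a + g (.ci l) + g (.cbi l)) * g (.ci l) = g .c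

theorem sat_iff (φ : R →+* S) (g : UGen m → S) :
    Sat g ↔ ∀ p ∈ URel R m, eval₂ φ g p = 0 := by
  constructor
  · intro h p hp
    simp only [URel, Set.mem_union, Set.mem_range] at hp
    rcases hp with ((⟨q, rfl⟩ | ⟨q, rfl⟩) | ⟨q, rfl⟩) | ⟨q, rfl⟩ <;>
      simp only [eval₂_add, eval₂_sub, eval₂_mul, eval₂_X]
    · rw [sub_eq_zero]; exact h.lin _ _ q.2
    · rw [sub_eq_zero]; exact h.quad _ _ q.2
    · rw [sub_eq_zero]; exact h.quadb _ _ q.2
    · rw [sub_eq_zero]; exact h.tri _ _ _ q.2.1 q.2.2.1 q.2.2.2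
  · intro h
    refine ⟨fun i j hij => ?_, fun i j hij => ?_, fun i j hij => ?_, fun i j l hij hjl hil => ?_⟩ <;>
      rw [← sub_eq_zero]
    · have := h _ (Or.inl (Or.inl (Or.inl ⟨⟨(i, j), hij⟩, rfl⟩)))
      simpa only [eval₂_add, eval₂_sub, eval₂_mul, eval₂_X] using this
    · have := h _ (Or.inl (Or.inl (Or.inr ⟨⟨(i, j), hij⟩, rfl⟩)))
      simpa only [eval₂_add, eval₂_sub, eval₂_mul, eval₂_X] using this
    · have := h _ (Or.inl (Or.inr ⟨⟨(i, j), hij⟩, rfl⟩))
      simpa only [eval₂_add, eval₂_sub, eval₂_mul, eval₂_X] using this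
    · have := h _ (Or.inr ⟨⟨(i, j, l), hij, hjl, hil⟩, rfl⟩)
      simpa only [eval₂_add, eval₂_sub, eval₂_mul, eval₂_X] using this

/-- The map out of `U_n` given by values satisfying the relations. -/
noncomputable def ulift (φ : R →+* S) (g : UGen m → S) (h : Sat g) : URing R m →+* S :=
  Ideal.Quotient.lift _ (eval₂Hom φ g) fun p hp => by
    refine (RingHom.mem_ker (f := eval₂Hom φ g)).1 (Ideal.span_le.2 (fun q hq => ?_) hp)
    exact (sat_iff φ g).1 h q hq

theorem ulift_ugen (φ : R →+* S) (g : UGen m → S) (h : Sat g) (x : UGen m) :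
    ulift φ g h (ugen R m x) = g x :=
  eval₂_X φ g x

theorem ulift_algebraMap (φ : R →+* S) (g : UGen m → S) (h : Sat g) (r : R) :
    ulift φ g h (algebraMap R _ r) = φ r :=
  eval₂_C φ g r

theorem sat_ugen : Sat (ugen R m) := by
  refine (sat_iff (algebraMap R (URing R m)) _).2 fun p hp => ?_
  have h : aeval (ugen R m) p = Ideal.Quotient.mkₐ R (Ideal.span (URel R m)) p :=
    congrArg (fun f : MvPolynomial (UGen m) R →ₐ[R] URing R m => f p)
      (MvPolynomial.algHom_ext fun x => by simp [ugen])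
  exact h.trans (Ideal.Quotient.eq_zero_iff_mem.2 (Ideal.subset_span hp))

theorem uincl_ugen (x : UGen m) : uincl R m (ugen R m x) = ugen R (m + 1) x.castSucc := by
  change Ideal.Quotient.mk _ (rename UGen.castSucc (X x)) = _
  rw [rename_X]; rfl

end Groth.Agent.M1CurvLib
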