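import Groth.Agent.M1CurvLib.Basic

/-!
# Identities between the relations of the affine curve
-/

universe u v

namespace Groth.Agent.M1CurvLib

open W4c5m1nsnscurves

variable {S : Type u} [CommRing S] {m : ℕ}

/-- `A_i = a + c_i + c̄_i`. -/
def cA (g : UGen m → S) (i : Fin m) : S := g .a + g (.ci i) + g (.cbi i)

/-- The constant of the relation for `x₃ x_i`. -/
def cD (g : UGen m → S) (i : Fin m) : S := g .cb - g .c - cA g i * g (.cbi i)

/-- The constant term of the cubic, computed from the index `i`. -/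
def dC (g : UGen m → S) (i : Fin m) : S := -(cA g i * g .c) - g (.ci i) * cD g i

variable (g : UGen m → S) (x y : S) (z : Fin m → S)

/-- The cubic relation between `x₂` and `x₃`. -/
def Cubic (d : S) : Prop := y * (x * y) = x * (x * y) + g .a * (x * y) + (g .cb - g .c) * x + g .c * y + d

/-- `x₂ x_i`. -/
def Rel2 (i : Fin m) : Prop := x * z i = x * y + g (.ci i) * z i + g (.cbi i) * x - g .c

/-- `x₃ x_i`. -/
def Rel3 (i : Fin m) : Prop := y * z i = x * y + cA g i * z i + cD g i

/-- `x_i x_j`. -/
def RelP (i j : Fin m) (h : i ≠ j) : Prop :=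
  z i * z j = x * y + g (.cij i j h) * z j + g (.cij j i h.symm) * z i - g .c

variable {g x y z}

theorem Rel2.cubic {i : Fin m} (h2 : Rel2 g x y z i) (h3 : Rel3 g x y z i) :
    Cubic g x y (dC g i) := by
  simp only [Rel2, Rel3, Cubic, dC, cD, cA] at *
  linear_combination (g .a + g (.ci i) + g (.cbi i) - y) * h2 + (x - g (.ci i)) * h3

/-- `x_i · x₂x₃`. -/
theorem Rel2.mul_p {i : Fin m} (h2 : Rel2 g x y z i) (h3 : Rel3 g x y z i) :
    z i * (x * y) = x * (x * y) + cA g i * (x * y) + (g .cb - g .c) * x +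
      g (.ci i) * cA g i * z i - cA g i * g .c := by
  have hG := h2.cubic h3
  simp only [Rel2, Rel3, Cubic, dC, cD, cA] at *
  linear_combination y * h2 + g (.ci i) * h3 + hG

variable (hg : Sat g)
include hg

theorem dC_eq (i j : Fin m) : dC g i = dC g j := by
  by_cases h : i = j
  · rw [h]
  have hL := hg.lin i j h
  have hQ := hg.quad i j h
  have hB := hg.quadb i j h
  unfold dC cD cA
  linear_combination (g (.cbi i) - g (.cbi j)) * hQ + (g (.ci i) - g (.ci j)) * hB -
    (g (.ci i) * g (.cbi i) - g (.ci j) * g (.cbi j)) * hL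

/-- Curves through `x₂ - c_i` invertible. -/
theorem rels_of_unit2 (i0 : Fin m) (hG : Cubic g x y (dC g i0)) (hu : ∀ j, IsUnit (x - g (.ci j)))
    (h2 : ∀ j, Rel2 g x y z j) :
    (∀ j, Rel3 g x y z j) ∧ ∀ i j h, RelP g x y z i j h := by
  have h3 : ∀ j, Rel3 g x y z j := fun j => by
    have hd := dC_eq hg i0 j
    have hR := h2 j
    refine (hu j).mul_left_cancel ?_
    simp only [Rel2, Rel3, Cubic, dC, cD, cA] at *
    linear_combination (y - (g .a + g (.ci j) + g (.cbi j))) * hR + hG + hd
  refine ⟨h3, fun i j h => ?_⟩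
  have hL := hg.lin i j h
  have hQ := hg.quad i j h
  have hB := hg.quadb i j h
  have hXP := (h2 j).mul_p (h3 j)
  have hi := h2 i
  have hj := h2 j
  refine (hu i).mul_left_cancel ?_
  simp only [Rel2, Rel3, RelP, dC, cD, cA] at *
  linear_combination z j * hi + hXP + (g (.cbi i) - g (.cij i j h)) * hj - g (.cij j i h.symm) * hi -
    (x * y) * hL - x * hB + z j * hQ - (g (.ci j) * z j) * hL + g .c * hL

/-- Curves through `x₃ - A_i` invertible. -/
theorem rels_of_unit3 (i0 : Fin m) (hG : Cubic g x y (dC g i0)) (hu : ∀ j, IsUnit (y - cA g j))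
    (h3 : ∀ j, Rel3 g x y z j) :
    (∀ j, Rel2 g x y z j) ∧ ∀ i j h, RelP g x y z i j h := by
  have h2 : ∀ j, Rel2 g x y z j := fun j => by
    have hd := dC_eq hg i0 j
    have hR := h3 j
    refine (hu j).mul_left_cancel ?_
    simp only [Rel2, Rel3, Cubic, dC, cD, cA] at *
    linear_combination (x - g (.ci j)) * hR - hG - hd
  refine ⟨h2, fun i j h => ?_⟩
  have hL := hg.lin i j h
  have hQ := hg.quad i j h
  have hB := hg.quadb i j h
  have hXP := (h2 j).mul_p (h3 j)
  have hi := h3 i
  have hj := h3 j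
  have hdi := dC_eq hg i0 i
  have hK : g (.cij i j h) * (cA g j - cA g i) - g (.ci j) * cA g j + cA g i * g (.cbi i) - g .cb + g .c = 0 := by
    unfold cA
    linear_combination -hQ + hB + (g (.ci j) - g (.cbi i)) * hL
  have hK' : g (.cij j i h.symm) * (cA g i - cA g j) - g (.ci i) * cA g i + cA g j * g (.cbi j) - g .cb + g .c = 0 := by
    unfold cA
    linear_combination -hQ + hB + (g (.ci i) - g (.cbi j)) * hL
  refine (hu i).mul_left_cancel ?_
  simp only [Rel2, Rel3, RelP, Cubic, dC, cD, cA] at *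
  linear_combination z j * hi + hXP - hG - g (.cij i j h) * hj - g (.cij j i h.symm) * hi -
    (x * y) * hL - z j * hK - hdi + g (.cbi i) * hK' +
    (g .a + g (.ci j) + g (.cbi j)) * hB - (g .cb - g .c) * hL

/-- Curves through `x_i - c_{ij}` invertible. -/
theorem rels_of_unitP (i : Fin m) (h2i : Rel2 g x y z i) (h3i : Rel3 g x y z i)
    (hu : ∀ j (h : i ≠ j), IsUnit (z i - g (.cij i j h))) (hP : ∀ j h, RelP g x y z i j h) :
    (∀ j, Rel2 g x y z j) ∧ (∀ j, Rel3 g x y z j) ∧ ∀ j l h, RelP g x y z j l h := by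
  have hG := h2i.cubic h3i
  have hXP := h2i.mul_p h3i
  have h2 : ∀ j, Rel2 g x y z j := fun j => by
    by_cases h : i = j
    · exact h ▸ h2i
    have hL := hg.lin i j h
    have hQ := hg.quad i j h
    have hB := hg.quadb i j h
    have hR := hP j h
    refine (hu j h).mul_left_cancel ?_
    simp only [Rel2, Rel3, RelP, dC, cD, cA] at *
    linear_combination (x - g (.ci j)) * hR + (g (.cij j i (Ne.symm h)) - g (.cbi j)) * h2i - hXP +
      (x * y) * hL + x * hB + (g (.ci i) * z i) * hL - z i * hQ - g .c * hL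
  have h3 : ∀ j, Rel3 g x y z j := fun j => by
    by_cases h : i = j
    · exact h ▸ h3i
    have hL := hg.lin i j h
    have hQ := hg.quad i j h
    have hB := hg.quadb i j h
    have hR := hP j h
    have hK' : g (.cij j i (Ne.symm h)) * (cA g i - cA g j) - g (.ci i) * cA g i + cA g j * g (.cbi j) -
        g .cb + g .c = 0 := by
      unfold cA
      linear_combination -hQ + hB + (g (.ci i) - g (.cbi j)) * hL
    refine (hu j h).mul_left_cancel ?_
    simp only [Rel2, Rel3, RelP, Cubic, dC, cD, cA] at *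
    linear_combination (y - (g .a + g (.ci j) + g (.cbi j))) * hR + g (.cij j i (Ne.symm h)) * h3i + hG - hXP +
      (x * y) * hL + z i * hK' - g (.cbi i) * hK' - (g .a + g (.ci j) + g (.cbi j)) * hB +
      (g .cb - g .c) * hL
  refine ⟨h2, h3, fun j l h => ?_⟩
  by_cases hij : i = j
  · subst hij; exact hP l h
  by_cases hil : i = l
  · subst hil
    have := hP j (Ne.symm h)
    simp only [RelP] at *
    linear_combination this
  have hXPl := (h2 l).mul_p (h3 l)
  have hjk := hg.tri i j l hij h hil
  have hkj := hg.tri l j i (Ne.symm h) (Ne.symm hij) (Ne.symm hil)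
  have hLij := hg.lin i j hij
  have hLjl := hg.lin j l h
  have hPj := hP j hij
  have hPl := hP l hil
  refine (hu j hij).mul_left_cancel ?_
  simp only [RelP, cA] at *
  linear_combination z l * hPj + hXPl - hXP + (g (.cij j i (Ne.symm hij)) - g (.cij j l h)) * hPl -
    g (.cij l j h.symm) * hPj + (x * y - g .c) * hLij - (x * y - g .c) * hLjl + z l * hjk - z i * hkj

end Groth.Agent.M1CurvLib
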