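import Mathlib

/-!
# Polar parts in `R⟦t⟧[1/t]`
-/

universe u w

namespace Groth.Agent.M1CurvLib

open PowerSeries

variable {R : Type u} [CommRing R]

/-- `f = c₀ + t P(f)` has a solution. -/
theorem exists_fixed (c0 : R) (P : Polynomial R⟦X⟧) : ∃ f : R⟦X⟧, f = C c0 + X * P.eval f := by
  let F : R⟦X⟧ → R⟦X⟧ := fun f => C c0 + X * P.eval f
  let a : ℕ → R⟦X⟧ := fun n => F^[n] 0
  have ha : ∀ n, a (n + 1) = F (a n) := fun n => Function.iterate_succ_apply' F n 0
  have hF : ∀ n f g, (X : R⟦X⟧) ^ n ∣ f - g → X ^ (n + 1) ∣ F f - F g := fun n f g h => by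
    rw [show F f - F g = X * (P.eval f - P.eval g) by simp only [F]; ring, pow_succ']
    exact mul_dvd_mul_left X (h.trans (Polynomial.sub_dvd_eval_sub f g P))
  have hstep : ∀ n, (X : R⟦X⟧) ^ n ∣ a (n + 1) - a n := fun n => by
    induction n with
    | zero => rw [pow_zero]; exact one_dvd _
    | succ n ih => have := hF n _ _ ih; rwa [← ha, ← ha] at this
  have hstab : ∀ n k, (X : R⟦X⟧) ^ n ∣ a (n + k) - a n := fun n k => by
    induction k with
    | zero => simp
    | succ k ih =>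
      have h2 := (pow_dvd_pow (X : R⟦X⟧) (Nat.le_add_right n k)).trans (hstep (n + k))
      have h3 := dvd_add h2 ih
      rwa [sub_add_sub_cancel] at h3
  let f : R⟦X⟧ := mk fun n => coeff n (a (n + 1))
  have hf : ∀ n, (X : R⟦X⟧) ^ n ∣ f - a n := fun n => X_pow_dvd_iff.2 fun j hj => by
    obtain ⟨k, rfl⟩ : ∃ k, n = j + 1 + k := ⟨n - (j + 1), by omega⟩
    have h := X_pow_dvd_iff.1 (hstab (j + 1) k) j (by omega)
    rw [map_sub, sub_eq_zero] at h
    rw [map_sub, coeff_mk, h, sub_self]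
  refine ⟨f, ext fun n => ?_⟩
  have h1 : (X : R⟦X⟧) ^ (n + 1) ∣ f - F f := by
    rw [show f - F f = (f - a (n + 1)) + (F (a n) - F f) by rw [← ha]; ring]
    exact dvd_add (hf (n + 1)) (by
      have h2 := hF n f (a n) (hf n)
      rwa [← dvd_neg, neg_sub] at h2)
  have h3 := X_pow_dvd_iff.1 h1 n (Nat.lt_succ_self n)
  rwa [map_sub, sub_eq_zero] at h3

/-- `R⟦t⟧[1/t]`. -/
abbrev Lau (R : Type u) [CommRing R] : Type u := Localization.Away (X : R⟦X⟧)

/-- `t⁻¹`. -/
noncomputable def tinv : Lau R := IsLocalization.Away.invSelf (X : R⟦X⟧)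

theorem tinv_mul : algebraMap R⟦X⟧ (Lau R) X * (tinv : Lau R) = 1 := IsLocalization.Away.mul_invSelf _

theorem algebraMap_lau_injective : Function.Injective (algebraMap R⟦X⟧ (Lau R)) := by
  refine IsLocalization.injective _ (M := Submonoid.powers (X : R⟦X⟧)) ?_
  rintro _ ⟨n, rfl⟩
  refine pow_mem (mem_nonZeroDivisors_iff_right.2 fun f hf => ext fun m => ?_) n
  have := congrArg (coeff (m + 1)) hf
  rwa [coeff_succ_mul_X] at this

theorem algebraMap_C (r : R) : algebraMap R (Lau R) r = algebraMap R⟦X⟧ (Lau R) (C r) :=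
  IsScalarTower.algebraMap_apply R R⟦X⟧ (Lau R) r

/-- Polar coefficients of a vanishing combination vanish. -/
theorem pole_extract {ι : Type w} (v : ι →₀ R) (val : ι → Lau R)
    (hsum : Finsupp.linearCombination R val v = 0) (emb : ℕ → ι) (hinj : Function.Injective emb)
    (hreg : ∀ t, (∀ k, emb k ≠ t) → v t ≠ 0 → ∃ f, val t = algebraMap R⟦X⟧ (Lau R) f)
    (hemb : ∀ k, val (emb k) = tinv ^ (k + 1)) (k₀ : ℕ) : v (emb k₀) = 0 := by
  classical
  let N := (v.support.preimage emb hinj.injOn).sup id + k₀ + 1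
  have hN : ∀ k, v (emb k) ≠ 0 → k + 1 ≤ N := fun k hk => by
    have : k ≤ (v.support.preimage emb hinj.injOn).sup id :=
      Finset.le_sup (f := id) (by simpa using hk)
    omega
  have hG : ∀ t, ∃ G : R⟦X⟧,
      (v t ≠ 0 → algebraMap R⟦X⟧ (Lau R) X ^ N * val t = algebraMap R⟦X⟧ (Lau R) G) ∧
      (v t ≠ 0 → coeff (N - (k₀ + 1)) G = if emb k₀ = t then 1 else 0) := by
    intro t
    by_cases hv : v t = 0
    · exact ⟨0, fun h => absurd hv h, fun h => absurd hv h⟩
    by_cases ht : ∃ k, emb k = t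
    · obtain ⟨k, rfl⟩ := ht
      refine ⟨X ^ (N - (k + 1)), fun _ => ?_, fun _ => ?_⟩
      · obtain ⟨e, he⟩ : ∃ e, N = e + (k + 1) := ⟨N - (k + 1), by have := hN k hv; omega⟩
        rw [he, Nat.add_sub_cancel, hemb, pow_add, map_pow, mul_assoc, ← mul_pow, tinv_mul, one_pow, mul_one]
      · rw [coeff_X_pow]
        have := hN k hv
        by_cases hk : k₀ = k
        · subst hk; simp
        · rw [if_neg (by omega), if_neg (fun h => hk (hinj h))]
    · rw [not_exists] at ht
      obtain ⟨f, hf⟩ := hreg t ht hv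
      refine ⟨X ^ N * f, fun _ => by rw [hf, map_mul, map_pow], fun _ => ?_⟩
      rw [if_neg (ht k₀), coeff_X_pow_mul', if_neg (by omega)]
  choose G hG1 hG2 using hG
  have hzero : ∑ t ∈ v.support, C (v t) * G t = 0 := algebraMap_lau_injective (by
    rw [map_sum, map_zero]
    calc ∑ t ∈ v.support, algebraMap R⟦X⟧ (Lau R) (C (v t) * G t)
        = algebraMap R⟦X⟧ (Lau R) X ^ N * Finsupp.linearCombination R val v := by
          rw [Finsupp.linearCombination_apply, Finsupp.sum, Finset.mul_sum]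
          refine Finset.sum_congr rfl fun t ht => ?_
          rw [map_mul, ← algebraMap_C, ← hG1 t (Finsupp.mem_support_iff.1 ht), Algebra.smul_def]
          ring
      _ = 0 := by rw [hsum, mul_zero])
  by_contra h
  refine h ?_
  have := congrArg (coeff (N - (k₀ + 1))) hzero
  rw [map_sum, map_zero, Finset.sum_eq_single (emb k₀)] at this
  · rwa [coeff_C_mul, hG2 _ h, if_pos rfl, mul_one] at this
  · intro t ht hne
    rw [coeff_C_mul, hG2 t (Finsupp.mem_support_iff.1 ht), if_neg (Ne.symm hne), mul_zero]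
  · intro hns; exact absurd (Finsupp.notMem_support_iff.1 hns) h

end Groth.Agent.M1CurvLib
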