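import Groth.Agent.M1CurvLib.CurveSpan
import Groth.Agent.M1CurvLib.Pole

/-!
# Independence of the monomials on the affine curve over a point of `U_n`
-/

universe u w

namespace Groth.Agent.M1CurvLib

open W4c5m1nsnscurves

variable {R : Type u} [CommRing R] {m : ℕ} (v : UGen m → R)

theorem exists_curveLift {S : Type w} [CommRing S] [Algebra R S] (x y : S) (z : Fin m → S)
    (h2 : ∀ i, Rel2 (fun t => algebraMap R S (v t)) x y z i)
    (h3 : ∀ i, Rel3 (fun t => algebraMap R S (v t)) x y z i)
    (hP : ∀ i j h, RelP (fun t => algebraMap R S (v t)) x y z i j h) :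
    ∃ Ψ : CurveAlg R m v →ₐ[R] S, Ψ (ax v .x2) = x ∧ Ψ (ax v .x3) = y ∧ ∀ i, Ψ (ax v (.xi i)) = z i := by
  let val : CVar m → S := fun
    | .x2 => x
    | .x3 => y
    | .xi i => z i
  let F : MvPolynomial (CVar m) R →ₐ[R] S := MvPolynomial.aeval val
  have hker : ∀ p ∈ Ideal.span (CRel R m v), F p = 0 := by
    intro p hp
    refine (RingHom.mem_ker (f := (F : _ →+* S))).1 (Ideal.span_le.2 (fun q hq => ?_) hp)
    simp only [CRel, Set.mem_union, Set.mem_range] at hq
    rw [SetLike.mem_coe, RingHom.mem_ker]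
    rcases hq with (⟨i, rfl⟩ | ⟨i, rfl⟩) | ⟨⟨⟨i, j⟩, hij⟩, rfl⟩ <;>
      simp only [RingHom.coe_coe, F, map_sub, map_add, map_mul, MvPolynomial.aeval_X, MvPolynomial.aeval_C, val]
    · have h := h2 i
      simp only [Rel2] at h
      linear_combination h
    · have h := h3 i
      simp only [Rel3, cD, cA] at h
      linear_combination h
    · have h := hP i j hij
      simp only [RelP] at h
      linear_combination h
  refine ⟨Ideal.Quotient.liftₐ _ F hker, ?_, ?_, fun i => ?_⟩ <;>
    exact MvPolynomial.aeval_X val _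

theorem sat_map {S : Type w} [CommRing S] [Algebra R S] (hg : Sat v) :
    Sat (fun t => algebraMap R S (v t)) := by
  obtain ⟨h1, h2, h3, h4⟩ := hg
  refine ⟨fun i j h => ?_, fun i j h => ?_, fun i j h => ?_, fun i j l a b c => ?_⟩
  · simp only [← map_add, h1 i j h]
  · simp only [← map_add, ← map_sub, ← map_mul, h2 i j h]
  · simp only [← map_add, ← map_sub, ← map_mul, h3 i j h]
  · simp only [← map_add, ← map_sub, ← map_mul, h4 i j l a b c]

variable (hg : Sat v)
include hg

/-- The branch where `x_i` has a pole. -/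
theorem exists_branchP (i : Fin m) : ∃ Ψ : CurveAlg R m v →ₐ[R] Lau R,
    Ψ (ax v (.xi i)) = tinv ∧
      ∀ y, y ≠ CVar.xi i → ∃ f : PowerSeries R, Ψ (ax v y) = algebraMap (PowerSeries R) (Lau R) f := by
  let κ : R → PowerSeries R := PowerSeries.C
  let A := κ (cA v i)
  let D := κ (cD v i)
  let ci := κ (v (.ci i))
  let cb := κ (v (.cbi i))
  let c := κ (v .c)
  obtain ⟨ξ, hξ⟩ := exists_fixed (v (.ci i))
    (Polynomial.X * (Polynomial.X + Polynomial.C (A - ci) +
      Polynomial.C PowerSeries.X * (Polynomial.C (D + c) - Polynomial.C cb * Polynomial.X)) +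
      Polynomial.C cb * Polynomial.X - Polynomial.C c)
  simp only [Polynomial.eval_add, Polynomial.eval_sub, Polynomial.eval_mul, Polynomial.eval_X,
    Polynomial.eval_C] at hξ
  change ξ = ci + _ at hξ
  let η := ξ + (A - ci) + PowerSeries.X * ((D + c) - cb * ξ)
  have e1 : ξ = ci + PowerSeries.X * (ξ * η + cb * ξ - c) := hξ
  have e2 : η = A + PowerSeries.X * (ξ * η + D) := by
    change ξ + (A - ci) + PowerSeries.X * ((D + c) - cb * ξ) = _
    linear_combination e1
  let al := algebraMap (PowerSeries R) (Lau R)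
  have hs : al PowerSeries.X * (tinv : Lau R) = 1 := tinv_mul
  have hC : ∀ r, algebraMap R (Lau R) r = al (κ r) := algebraMap_C
  let iv : Fin m → PowerSeries R := fun j => if h : i = j then 0 else
    PowerSeries.invOfUnit (1 - κ (v (.cij i j h)) * PowerSeries.X) 1
  have hiv : ∀ j (h : i ≠ j), (1 - κ (v (.cij i j h)) * PowerSeries.X) * iv j = 1 := fun j h => by
    simp only [iv, dif_neg h]
    exact PowerSeries.mul_invOfUnit _ 1 (by simp [κ])
  let w : Fin m → PowerSeries R := fun j => if h : i = j then 0 else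
    (PowerSeries.X * (ξ * η - c) + κ (v (.cij j i (Ne.symm h)))) * iv j
  let z : Fin m → Lau R := fun j => if i = j then tinv else al (w j)
  have hzi : z i = tinv := if_pos rfl
  let g : UGen m → Lau R := fun t => algebraMap R (Lau R) (v t)
  have h2i : Rel2 g (al ξ) (al η) z i := by
    have h := congrArg al e1
    simp only [map_add, map_sub, map_mul] at h
    simp only [Rel2, hzi, g, hC]
    linear_combination tinv * h + (al ξ * al η + al cb * al ξ - al c) * hs
  have h3i : Rel3 g (al ξ) (al η) z i := by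
    have h := congrArg al e2
    simp only [map_add, map_sub, map_mul] at h
    have hA : cA g i = al A := by simp only [A, cA, g, hC, κ, map_add]
    have hD : cD g i = al D := by simp only [D, cD, cA, g, hC, κ, map_add, map_sub, map_mul]
    simp only [Rel3, hzi, hA, hD]
    linear_combination tinv * h + (al ξ * al η + al D) * hs
  have hu : ∀ j (h : i ≠ j), IsUnit (z i - g (.cij i j h)) := fun j h => by
    rw [hzi]
    refine IsUnit.of_mul_eq_one (al PowerSeries.X * al (iv j)) ?_
    have h1 := congrArg al (hiv j h)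
    simp only [map_mul, map_sub, map_one] at h1
    simp only [g, hC]
    linear_combination al (iv j) * hs + h1
  have hPi : ∀ j h, RelP g (al ξ) (al η) z i j h := fun j h => by
    have h1 := congrArg al (hiv j h)
    simp only [map_mul, map_sub, map_one] at h1
    have hzj : z j = (al PowerSeries.X * (al ξ * al η - al c) + al (κ (v (.cij j i (Ne.symm h))))) * al (iv j) := by
      simp only [z, if_neg h, w, dif_neg h, map_mul, map_add, map_sub]
    simp only [RelP, hzi, g, hC, hzj]
    linear_combination (tinv * (al PowerSeries.X * (al ξ * al η - al c) + al (κ (v (.cij j i (Ne.symm h)))))) * h1 +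
      ((al ξ * al η - al c) + al (κ (v (.cij i j h))) *
        ((al PowerSeries.X * (al ξ * al η - al c) + al (κ (v (.cij j i (Ne.symm h))))) * al (iv j))) * hs
  obtain ⟨h2, h3, hP⟩ := rels_of_unitP (sat_map v hg) i h2i h3i hu hPi
  obtain ⟨Ψ, hx, hy, hz⟩ := exists_curveLift v (al ξ) (al η) z h2 h3 hP
  refine ⟨Ψ, (hz i).trans hzi, fun y hyne => ?_⟩
  match y with
  | .x2 => exact ⟨ξ, hx⟩
  | .x3 => exact ⟨η, hy⟩
  | .xi j => exact ⟨w j, (hz j).trans (if_neg fun h => hyne (by rw [h]))⟩

/-- The branch where only `x₃` has a pole. -/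
theorem exists_branch3 (i0 : Fin m) : ∃ Ψ : CurveAlg R m v →ₐ[R] Lau R,
    Ψ (ax v .x3) = tinv ∧ (∃ f : PowerSeries R, Ψ (ax v .x2) = algebraMap (PowerSeries R) (Lau R) f) ∧
      ∃ f : PowerSeries R, Ψ (ax v .x2 * ax v .x3) = algebraMap (PowerSeries R) (Lau R) f := by
  let κ : R → PowerSeries R := PowerSeries.C
  let P : Polynomial (PowerSeries R) := Polynomial.X * Polynomial.X + Polynomial.C (κ (v .a)) * Polynomial.X +
    Polynomial.C (κ (v .c)) +
    Polynomial.C PowerSeries.X * (Polynomial.C (κ (v .cb - v .c)) * Polynomial.X + Polynomial.C (κ (dC v i0)))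
  obtain ⟨ξ, hξ⟩ := exists_fixed 0 P
  rw [map_zero, zero_add] at hξ
  let al := algebraMap (PowerSeries R) (Lau R)
  have hs : al PowerSeries.X * (tinv : Lau R) = 1 := tinv_mul
  have hC : ∀ r, algebraMap R (Lau R) r = al (κ r) := algebraMap_C
  let g : UGen m → Lau R := fun t => algebraMap R (Lau R) (v t)
  have he : al ξ = al PowerSeries.X * (al ξ * al ξ + al (κ (v .a)) * al ξ + al (κ (v .c)) +
      al PowerSeries.X * (al (κ (v .cb - v .c)) * al ξ + al (κ (dC v i0)))) := by
    conv_lhs => rw [hξ]
    simp only [P, Polynomial.eval_add, Polynomial.eval_mul, Polynomial.eval_X, Polynomial.eval_C, map_add, map_mul]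
  have hd : dC g i0 = al (κ (dC v i0)) := by
    simp only [← hC, dC, cD, cA, g, map_neg, map_add, map_sub, map_mul]
  have hb : g .cb - g .c = al (κ (v .cb - v .c)) := by simp only [← hC, g, map_sub]
  have hG : Cubic g (al ξ) tinv (dC g i0) := by
    unfold Cubic
    rw [hd, hb]
    simp only [g, hC]
    linear_combination (tinv * tinv) * he + (tinv * (al ξ * al ξ + al (κ (v .a)) * al ξ + al (κ (v .c))) +
      (al (κ (v .cb - v .c)) * al ξ + al (κ (dC v i0))) * (al PowerSeries.X * tinv + 1)) * hs
  have hu : ∀ j, IsUnit ((tinv : Lau R) - cA g j) := fun j => by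
    let e := PowerSeries.invOfUnit (1 - κ (cA v j) * PowerSeries.X) 1
    refine IsUnit.of_mul_eq_one (al PowerSeries.X * al e) ?_
    have h1 := congrArg al (PowerSeries.mul_invOfUnit (1 - κ (cA v j) * PowerSeries.X) 1 (by simp [κ]))
    simp only [map_mul, map_sub, map_one] at h1
    have hA : cA g j = al (κ (cA v j)) := by simp only [← hC, cA, g, map_add]
    rw [hA]
    linear_combination al e * hs + h1
  let z : Fin m → Lau R := fun j => (((hu j).unit⁻¹ : (Lau R)ˣ) : Lau R) * (al ξ * tinv + cD g j)
  have h3 : ∀ j, Rel3 g (al ξ) tinv z j := fun j => by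
    have h := (hu j).mul_val_inv
    simp only [Rel3, z]
    linear_combination (al ξ * tinv + cD g j) * h
  obtain ⟨h2, hP⟩ := rels_of_unit3 (sat_map v hg) i0 hG hu h3
  obtain ⟨Ψ, hx, hy, -⟩ := exists_curveLift v (al ξ) tinv z h2 h3 hP
  refine ⟨Ψ, hy, ⟨ξ, hx⟩, P.eval ξ, ?_⟩
  rw [map_mul, hx, hy]
  conv_lhs => rw [hξ]
  rw [map_mul]
  linear_combination al (P.eval ξ) * hs

open Polynomial in
/-- The plane model over `R[x₂][1/(x₂ ∏ (x₂ - c_j))]`. -/
theorem indep_rest [Nontrivial R] (i0 : Fin m) (l : Option (ℕ ⊕ (CVar m × ℕ)) →₀ R)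
    (hsum : Finsupp.linearCombination R (cmon R m v) l = 0)
    (hsupp : ∀ y k, y ≠ CVar.x2 → l (some (Sum.inr (y, k))) = 0) : l = 0 := by
  let q : R[X] := X * ∏ j : Fin m, (X - C (v (.ci j)))
  have hq : q.Monic := monic_X.mul (monic_prod_of_monic _ _ fun j _ => monic_X_sub_C _)
  let S0 := Localization.Away q
  let al := algebraMap R[X] S0
  have hinj : Function.Injective al := by
    refine IsLocalization.injective _ (M := Submonoid.powers q) ?_
    rintro _ ⟨n, rfl⟩
    exact pow_mem hq.mem_nonZeroDivisors n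
  have hunit : ∀ p, p ∣ q → IsUnit (al p) := fun p hp =>
    isUnit_of_dvd_unit (map_dvd al hp) (IsLocalization.Away.algebraMap_isUnit q)
  obtain ⟨u, hu⟩ := hunit X (dvd_mul_right _ _)
  let B : S0 := al X + algebraMap R S0 (v .a) + algebraMap R S0 (v .c) * (↑u⁻¹ : S0)
  let E : S0 := algebraMap R S0 (v .cb - v .c) + algebraMap R S0 (dC v i0) * (↑u⁻¹ : S0)
  let Q : Polynomial S0 := X ^ 2 - (C B * X + C E)
  have hQ : Q.Monic := monic_X_pow_sub (lt_of_le_of_lt degree_linear_le (by decide))
  let of' := algebraMap S0 (AdjoinRoot Q)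
  let x : AdjoinRoot Q := of' (al X)
  let y : AdjoinRoot Q := AdjoinRoot.root Q
  let g : UGen m → AdjoinRoot Q := fun t => algebraMap R _ (v t)
  have hC : ∀ r, algebraMap R (AdjoinRoot Q) r = of' (algebraMap R S0 r) := fun r =>
    IsScalarTower.algebraMap_apply R S0 _ r
  have hG : Cubic g x y (dC g i0) := by
    have hr : y ^ 2 - (of' B * y + of' E) = 0 := by
      have := AdjoinRoot.eval₂_root Q
      simpa [Q, y, of'] using this
    have hxu : x * of' (↑u⁻¹ : S0) = 1 := by
      rw [show x = of' (↑u : S0) from congrArg of' hu.symm, ← map_mul, Units.mul_inv, map_one]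
    have hd : dC g i0 = of' (algebraMap R S0 (dC v i0)) := by
      rw [← hC]; simp only [dC, cD, cA, g, map_neg, map_add, map_sub, map_mul]
    simp only [B, E, map_add, map_mul, map_sub] at hr
    unfold Cubic
    rw [hd]
    simp only [g, hC, map_sub]
    simp only [x] at hxu ⊢
    linear_combination of' (al X) * hr + (of' (algebraMap R S0 (v .c)) * y + of' (algebraMap R S0 (dC v i0))) * hxu
  have hux : ∀ j, IsUnit (x - g (.ci j)) := fun j => by
    have h : x - g (.ci j) = of' (al (X - C (v (.ci j)))) := by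
      rw [map_sub, map_sub, ← Polynomial.algebraMap_eq,
        show al (algebraMap R R[X] (v (.ci j))) = algebraMap R S0 (v (.ci j)) from
          (IsScalarTower.algebraMap_apply R R[X] S0 _).symm, ← hC]
    rw [h]
    exact (hunit _ (dvd_mul_of_dvd_right (Finset.dvd_prod_of_mem (fun j : Fin m => X - C (v (.ci j)))
      (Finset.mem_univ j)) _)).map of'
  let z : Fin m → AdjoinRoot Q := fun j =>
    (((hux j).unit⁻¹ : (AdjoinRoot Q)ˣ) : AdjoinRoot Q) * (x * y + g (.cbi j) * x - g .c)
  have h2 : ∀ j, Rel2 g x y z j := fun j => by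
    have h := (hux j).mul_val_inv
    simp only [Rel2, z]
    linear_combination (x * y + g (.cbi j) * x - g .c) * h
  obtain ⟨h3, hP⟩ := rels_of_unit2 (sat_map v hg) i0 hG hux h2
  obtain ⟨Ψ, hx, hy, -⟩ := exists_curveLift v x y z h2 h3 hP
  let U : Option (ℕ ⊕ (CVar m × ℕ)) → R[X] := fun
    | none => 1
    | some (Sum.inl _) => 0
    | some (Sum.inr (_, k)) => X ^ (k + 1)
  let W : Option (ℕ ⊕ (CVar m × ℕ)) → R[X] := fun
    | some (Sum.inl k) => X ^ (k + 1)
    | _ => 0
  have hval : ∀ t ∈ l.support, Ψ (cmon R m v t) = of' (al (U t)) + of' (al (W t)) * y := by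
    intro t ht
    match t with
    | none => simp [cmon_none, U, W]
    | some (Sum.inl k) => simp [cmon_inl, U, W, hx, hy, x]
    | some (Sum.inr (y', k)) =>
      by_cases h : y' = CVar.x2
      · subst h; simp [cmon_pow, U, W, hx, x]
      · exact absurd (hsupp y' k h) (Finsupp.mem_support_iff.1 ht)
  let Us := ∑ t ∈ l.support, l t • U t
  let Ws := ∑ t ∈ l.support, l t • W t
  have h0 : of' (al Us) + of' (al Ws) * y = 0 := by
    have h := congrArg Ψ hsum
    rw [map_zero, Finsupp.linearCombination_apply, Finsupp.sum, map_sum] at h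
    rw [← h]
    simp only [Us, Ws, map_sum, Finset.sum_mul, ← Finset.sum_add_distrib]
    refine Finset.sum_congr rfl fun t ht => ?_
    have hsm : ∀ (r : R) (p : R[X]), of' (al (r • p)) = algebraMap R (AdjoinRoot Q) r * of' (al p) := fun r p => by
      rw [Polynomial.smul_eq_C_mul, map_mul, map_mul, hC]
      congr 1
    rw [hsm, hsm, map_smul, Algebra.smul_def, hval t ht]; ring
  have h1 : C (al Us) + C (al Ws) * X = 0 := by
    have h : AdjoinRoot.mk Q (C (al Us) + C (al Ws) * X) = 0 := by
      rw [map_add, map_mul, AdjoinRoot.mk_X, AdjoinRoot.mk_C, AdjoinRoot.mk_C]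
      exact h0
    rw [AdjoinRoot.mk_eq_zero] at h
    haveI : Nontrivial S0 := (hinj.nontrivial : _)
    by_contra hne
    refine absurd (hQ.not_dvd_of_degree_lt hne ?_) (not_not_intro h)
    have : (C (al Us) + C (al Ws) * X : Polynomial S0).degree ≤ 1 := by
      rw [add_comm]; exact degree_linear_le
    exact lt_of_le_of_lt this (by
      rw [degree_sub_eq_left_of_degree_lt (lt_of_le_of_lt degree_linear_le
        (by rw [degree_X_pow]; decide)), degree_X_pow]
      decide)
  have hU0 : Us = 0 := hinj (by simpa using congrArg (fun p => Polynomial.coeff p 0) h1)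
  have hW0 : Ws = 0 := hinj (by simpa using congrArg (fun p => Polynomial.coeff p 1) h1)
  have key : ∀ (F : Option (ℕ ⊕ (CVar m × ℕ)) → R[X]) (t₀ : Option (ℕ ⊕ (CVar m × ℕ))) (n : ℕ),
      (∑ t ∈ l.support, l t • F t) = 0 → (F t₀).coeff n = 1 →
      (∀ t, l t ≠ 0 → t ≠ t₀ → (F t).coeff n = 0) → l t₀ = 0 := by
    intro F t₀ n hF h1' h2'
    by_contra h
    refine h ?_
    have := congrArg (fun p => Polynomial.coeff p n) hF
    simp only [Polynomial.finsetSum_coeff, Polynomial.coeff_smul, Polynomial.coeff_zero] at this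
    rw [Finset.sum_eq_single t₀ (fun t ht hne => by rw [h2' t (Finsupp.mem_support_iff.1 ht) hne, smul_zero])
      (fun hns => absurd (Finsupp.notMem_support_iff.1 hns) h), h1', smul_eq_mul, mul_one] at this
    exact this
  ext t
  rw [Finsupp.zero_apply]
  match t with
  | none =>
    refine key U none 0 hU0 (by simp [U]) fun t ht hne => ?_
    match t with
    | none => exact absurd rfl hne
    | some (Sum.inl k) => simp [U]
    | some (Sum.inr (y', k)) => simp [U]
  | some (Sum.inl k) =>
    refine key W _ (k + 1) hW0 (by simp [W]) fun t ht hne => ?_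
    match t with
    | none => simp [W]
    | some (Sum.inl k') =>
      simp only [W, coeff_X_pow]
      rw [if_neg fun h => hne (by rw [show k = k' by omega])]
    | some (Sum.inr p) => simp [W]
  | some (Sum.inr (y', k)) =>
    by_cases hy' : y' = CVar.x2
    · subst hy'
      refine key U _ (k + 1) hU0 (by simp [U]) fun t ht hne => ?_
      match t with
      | none => simp [U, coeff_one]
      | some (Sum.inl k') => simp [U]
      | some (Sum.inr (y'', k')) =>
        have hy'' : y'' = CVar.x2 := by
          by_contra h; exact ht (hsupp y'' k' h)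
        subst hy''
        simp only [U, coeff_X_pow]
        rw [if_neg fun h => hne (by rw [show k = k' by omega])]
    · exact hsupp y' k hy'

theorem indep_cmon (i0 : Fin m) : LinearIndependent R (cmon R m v) := by
  rw [linearIndependent_iff]
  intro l hl
  rcases subsingleton_or_nontrivial R with hR | hR
  · exact Subsingleton.elim _ _
  have hxi : ∀ i k, l (some (Sum.inr (CVar.xi i, k))) = 0 := by
    intro i
    obtain ⟨Ψ, h1, h2⟩ := exists_branchP v hg i
    refine pole_extract l (fun t => Ψ (cmon R m v t)) ?_ (fun k => some (Sum.inr (CVar.xi i, k)))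
      (fun a b h => by simpa using h) (fun t ht _ => ?_) (fun k => by simp [cmon_pow, h1])
    · exact (Finsupp.apply_linearCombination R Ψ.toLinearMap (cmon R m v) l).symm.trans
        ((congrArg Ψ.toLinearMap hl).trans (map_zero _))
    · match t with
      | none => exact ⟨1, by simp [cmon_none]⟩
      | some (Sum.inl k) =>
        obtain ⟨f, hf⟩ := h2 .x2 (by simp)
        obtain ⟨f', hf'⟩ := h2 .x3 (by simp)
        exact ⟨f ^ (k + 1) * f', by simp [cmon_inl, hf, hf']⟩
      | some (Sum.inr (y, k)) =>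
        obtain ⟨f, hf⟩ := h2 y (fun h => ht k (by rw [h]))
        exact ⟨f ^ (k + 1), by simp [cmon_pow, hf]⟩
  have h3 : ∀ k, l (some (Sum.inr (CVar.x3, k))) = 0 := by
    obtain ⟨Ψ, h1, ⟨f, hf⟩, f', hf'⟩ := exists_branch3 v hg i0
    refine pole_extract l (fun t => Ψ (cmon R m v t)) ?_ (fun k => some (Sum.inr (CVar.x3, k)))
      (fun a b h => by simpa using h) (fun t ht hne => ?_) (fun k => by simp [cmon_pow, h1])
    · exact (Finsupp.apply_linearCombination R Ψ.toLinearMap (cmon R m v) l).symm.trans
        ((congrArg Ψ.toLinearMap hl).trans (map_zero _))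
    · match t with
      | none => exact ⟨1, by simp [cmon_none]⟩
      | some (Sum.inl k) =>
        exact ⟨f ^ k * f', by rw [cmon_inl, pow_succ, mul_assoc, map_mul, map_pow, hf, hf', map_mul, map_pow]⟩
      | some (Sum.inr (.x2, k)) => exact ⟨f ^ (k + 1), by simp [cmon_pow, hf]⟩
      | some (Sum.inr (.x3, k)) => exact absurd rfl (ht k)
      | some (Sum.inr (.xi i, k)) => exact absurd (hxi i k) hne
  refine indep_rest v hg i0 l hl fun y k hy => ?_
  match y with
  | .x2 => exact absurd rfl hy
  | .x3 => exact h3 k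
  | .xi i => exact hxi i k

end Groth.Agent.M1CurvLib
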