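import Groth.Agent.M1CurvLib.Free
import Groth.Prelude.Def_W4c5m1nsnscurvesC

/-!
# The basis of the three-pointed affine curve
-/

universe u

namespace Groth.Agent.M1CurvLib

open W4c5m1nsnscurves MvPolynomial

variable {R : Type u} [CommRing R] (a b c d : R)

local notation "ι₃" => Option (ℕ ⊕ (Fin 2 × ℕ))

/-- The monomials. -/
noncomputable def mon3 : ι₃ → MvPolynomial (Fin 2) R
  | none => 1
  | some (Sum.inl k) => X 0 ^ (k + 1) * X 1
  | some (Sum.inr (y, k)) => X y ^ (k + 1)

theorem cmon3_eq : cmon3 R a b c d = fun t => Ideal.Quotient.mk _ (mon3 t) := by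
  funext t
  match t with
  | none => exact (map_one _).symm
  | some (Sum.inl k) => rfl
  | some (Sum.inr (y, k)) => rfl

/-- Basis vectors. -/
noncomputable abbrev e3 (t : ι₃) : ι₃ →₀ R := Finsupp.single t 1

/-- Multiplication by `x₃` on the basis. -/
noncomputable def yVal : ι₃ → (ι₃ →₀ R)
  | none => e3 (some (Sum.inr (1, 0)))
  | some (Sum.inl k) => e3 (some (Sum.inl (k + 1))) + a • e3 (some (Sum.inl k)) +
      b • e3 (some (Sum.inr (0, k))) +
      c • (match k with | 0 => e3 (some (Sum.inr (1, 0))) | k + 1 => e3 (some (Sum.inl k))) +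
      d • (match k with | 0 => e3 none | k + 1 => e3 (some (Sum.inr (0, k))))
  | some (Sum.inr (y, k)) => if y = 0 then e3 (some (Sum.inl k)) else e3 (some (Sum.inr (1, k + 1)))

/-- The operator of `x₃`. -/
noncomputable def yOp : Module.End R (ι₃ →₀ R) := Finsupp.linearCombination R (yVal a b c d)

/-- Multiplication by `x₂` on the basis. -/
noncomputable def xVal : ι₃ → (ι₃ →₀ R)
  | none => e3 (some (Sum.inr (0, 0)))
  | some (Sum.inl k) => e3 (some (Sum.inl (k + 1)))
  | some (Sum.inr (y, k)) => if y = 0 then e3 (some (Sum.inr (0, k + 1)))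
      else ((yOp a b c d) ^ k) (e3 (some (Sum.inl 0)))

/-- The operator of `x₂`. -/
noncomputable def xOp : Module.End R (ι₃ →₀ R) := Finsupp.linearCombination R (xVal a b c d)

theorem yOp_e (t : ι₃) : yOp a b c d (e3 t) = yVal a b c d t := by
  simp [yOp, Finsupp.linearCombination_single]

theorem xOp_e (t : ι₃) : xOp a b c d (e3 t) = xVal a b c d t := by
  simp [xOp, Finsupp.linearCombination_single]

theorem xy_comm : xOp a b c d * yOp a b c d = yOp a b c d * xOp a b c d := by
  refine Finsupp.lhom_ext' fun t => LinearMap.ext_ring ?_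
  change xOp a b c d (yOp a b c d (e3 t)) = yOp a b c d (xOp a b c d (e3 t))
  rw [yOp_e, xOp_e]
  match t with
  | none => simp [yVal, xVal, xOp_e, yOp_e]
  | some (Sum.inl 0) => simp [yVal, xVal, xOp_e, yOp_e, map_add, map_smul, -Finsupp.smul_single]
  | some (Sum.inl (k + 1)) => simp [yVal, xVal, xOp_e, yOp_e, map_add, map_smul, -Finsupp.smul_single]
  | some (Sum.inr (y, k)) =>
    fin_cases y
    · simp [yVal, xVal, xOp_e, yOp_e]
    · simp [yVal, xVal, xOp_e, pow_succ']

theorem basis3 : LinearIndependent R (cmon3 R a b c d) ∧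
    Submodule.span R (Set.range (cmon3 R a b c d)) = ⊤ := by
  rw [cmon3_eq]
  let T : Fin 2 → Module.End R (ι₃ →₀ R) := ![xOp a b c d, yOp a b c d]
  refine basis_of_ops _ mon3 none rfl T (fun s t => ?_) (fun F hF p hp => ?_) (fun F hF t => ?_) (fun s v => ?_)
  · fin_cases s <;> fin_cases t <;> simp [T, xy_comm]
  · rw [Set.mem_singleton_iff] at hp
    subst hp
    have hX : F (X 0) = xOp a b c d := hF 0
    have hY : F (X 1) = yOp a b c d := hF 1
    simp only [map_sub, map_add, map_mul, map_pow, hX, hY, ← algebraMap_eq, AlgHom.commutes, pow_two]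
    simp [Module.algebraMap_end_apply, yOp_e, xOp_e, yVal, xVal]
    abel
  · have hX : F (X 0) = xOp a b c d := hF 0
    have hY : F (X 1) = yOp a b c d := hF 1
    have hxk : ∀ k, ((xOp a b c d) ^ (k + 1)) (e3 none) = e3 (some (Sum.inr (0, k))) := fun k => by
      induction k with
      | zero => simp [xOp_e, xVal]
      | succ k ih => rw [pow_succ', Module.End.mul_apply, ih, xOp_e]; simp [xVal]
    match t with
    | none => simp [mon3]
    | some (Sum.inl k) =>
      simp only [mon3, map_mul, map_pow, hX, hY]
      rw [(Commute.pow_left (xy_comm a b c d : Commute _ _) (k + 1)).eq, Module.End.mul_apply]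
      change yOp a b c d (((xOp a b c d) ^ (k + 1)) (e3 none)) = _
      rw [hxk, yOp_e]
      simp [yVal]
    | some (Sum.inr (y, k)) =>
      simp only [mon3, map_pow, hF]
      fin_cases y
      · exact hxk k
      · change ((yOp a b c d) ^ (k + 1)) (e3 none) = e3 _
        induction k with
        | zero => simp [yOp_e, yVal]
        | succ k ih => rw [pow_succ', Module.End.mul_apply, ih, yOp_e]; simp [yVal]
  · have hmem := Ideal.subset_span (α := MvPolynomial (Fin 2) R) (Set.mem_singleton
      (X 0 * X 1 ^ 2 - X 0 ^ 2 * X 1 - (C a * X 0 * X 1 + C b * X 0 + C c * X 1 + C d)))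
    revert hmem
    generalize Ideal.span ({X 0 * X 1 ^ 2 - X 0 ^ 2 * X 1 - (C a * X 0 * X 1 + C b * X 0 + C c * X 1 + C d)} :
      Set (MvPolynomial (Fin 2) R)) = J
    intro hmem
    let q := Ideal.Quotient.mk J
    let φ := Finsupp.linearCombination R (fun t => q (mon3 (R := R) t))
    change φ (T s v) = q (X s) * φ v
    have hφe : ∀ t, φ (e3 t) = q (mon3 t) := fun t => by simp [φ]
    have hsm : ∀ (r : R) t, φ (r • e3 t) = q (C r) * q (mon3 t) := fun r t => by
      rw [map_smul, hφe, ← map_mul, ← MvPolynomial.smul_eq_C_mul]; rfl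
    have hrel : q (X 0) * q (X 1) ^ 2 = q (X 0) ^ 2 * q (X 1) + (q (C a) * q (X 0) * q (X 1) +
        q (C b) * q (X 0) + q (C c) * q (X 1) + q (C d)) := by
      have h := Ideal.Quotient.eq_zero_iff_mem.2 hmem
      simp only [map_sub, map_add, map_mul, map_pow] at h
      linear_combination h
    have hy : ∀ w, φ (yOp a b c d w) = q (X 1) * φ w := by
      intro w
      induction w using Finsupp.induction_linear with
      | zero => simp
      | add x y hx hy => rw [map_add, map_add, map_add, hx, hy, mul_add]
      | single t r =>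
        rw [← Finsupp.smul_single_one, map_smul, map_smul, map_smul, mul_smul_comm, yOp_e, hφe]
        congr 1
        match t with
        | none => simp [yVal, hφe, mon3]
        | some (Sum.inl 0) =>
          simp only [yVal, map_add, hsm, hφe, mon3, map_mul, map_pow, map_one]
          linear_combination (-1 : MvPolynomial (Fin 2) R ⧸ J) * hrel
        | some (Sum.inl (k + 1)) =>
          simp only [yVal, map_add, hsm, hφe, mon3, map_mul, map_pow]
          linear_combination (-(q (X 0) ^ (k + 1))) * hrel
        | some (Sum.inr (y, k)) =>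
          fin_cases y <;> simp [yVal, hφe, mon3, map_mul, map_pow] <;> ring
    have hypow : ∀ k w, φ (((yOp a b c d) ^ k) w) = q (X 1) ^ k * φ w := fun k w => by
      induction k with
      | zero => simp
      | succ k ih => rw [pow_succ', Module.End.mul_apply, hy, ih, pow_succ', mul_assoc]
    have hx : ∀ w, φ (xOp a b c d w) = q (X 0) * φ w := by
      intro w
      induction w using Finsupp.induction_linear with
      | zero => simp
      | add x y hx hy => rw [map_add, map_add, map_add, hx, hy, mul_add]
      | single t r =>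
        rw [← Finsupp.smul_single_one, map_smul, map_smul, map_smul, mul_smul_comm, xOp_e, hφe]
        congr 1
        match t with
        | none => simp [xVal, hφe, mon3]
        | some (Sum.inl k) => simp [xVal, hφe, mon3, map_mul, map_pow]; ring
        | some (Sum.inr (y, k)) =>
          fin_cases y <;> simp [xVal, hφe, hypow, mon3, map_mul, map_pow] <;> ring
    fin_cases s
    · exact hx v
    · exact hy v

end Groth.Agent.M1CurvLib
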