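import Groth.Agent.M1CurvLib.CurveIdent
import Groth.Agent.M1CurvLib.Three

/-!
# Spanning, and the relations forced by independence
-/

universe u

namespace Groth.Agent.M1CurvLib

open W4c5m1nsnscurves MvPolynomial

variable {R : Type u} [CommRing R] {m : ℕ} (v : UGen m → R)

local notation "Ac" => CurveAlg R m v

/-- The constants in the curve algebra. -/
noncomputable def av (t : UGen m) : Ac := algebraMap R Ac (v t)

/-- The class of a variable. -/
noncomputable def ax (y : CVar m) : Ac := Ideal.Quotient.mk _ (X y)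

theorem av_def (t : UGen m) : av v t = Ideal.Quotient.mk (Ideal.span (CRel R m v)) (C (v t)) := rfl

theorem arel2 (i : Fin m) : Rel2 (av v) (ax v .x2) (ax v .x3) (fun j => ax v (.xi j)) i := by
  unfold Rel2
  simp only [ax, av_def, ← map_mul, ← map_add, ← map_sub]
  exact Ideal.Quotient.eq.2 (Ideal.subset_span (Or.inl (Or.inl ⟨i, rfl⟩)))

theorem arel3 (i : Fin m) : Rel3 (av v) (ax v .x2) (ax v .x3) (fun j => ax v (.xi j)) i := by
  have h : ax v .x3 * ax v (.xi i) = ax v .x2 * ax v .x3 + (av v .a + av v (.ci i) + av v (.cbi i)) *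
      (ax v (.xi i) - av v (.cbi i)) + av v .cb - av v .c := by
    simp only [ax, av_def, ← map_mul, ← map_add, ← map_sub]
    refine Ideal.Quotient.eq.2 (Ideal.subset_span (Or.inl (Or.inr ⟨i, ?_⟩)))
    simp only [map_add]
  unfold Rel3 cD cA
  linear_combination h

theorem arelP (i j : Fin m) (h : i ≠ j) :
    RelP (av v) (ax v .x2) (ax v .x3) (fun j => ax v (.xi j)) i j h := by
  unfold RelP
  simp only [ax, av_def, ← map_mul, ← map_add, ← map_sub]
  exact Ideal.Quotient.eq.2 (Ideal.subset_span (Or.inr ⟨⟨(i, j), h⟩, rfl⟩))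

theorem algebraMap_dC (i : Fin m) : algebraMap R Ac (dC v i) = dC (av v) i := by
  simp only [dC, cD, cA, av, map_neg, map_add, map_sub, map_mul]

theorem cmon_none : cmon R m v none = 1 := rfl

theorem cmon_inl (k : ℕ) : cmon R m v (some (Sum.inl k)) = ax v .x2 ^ (k + 1) * ax v .x3 := by
  change Ideal.Quotient.mk (Ideal.span (CRel R m v)) (X CVar.x2 ^ (k + 1) * X CVar.x3) = _
  rw [map_mul, map_pow]; rfl

theorem cmon_pow (y : CVar m) (k : ℕ) : cmon R m v (some (Sum.inr (y, k))) = ax v y ^ (k + 1) :=
  map_pow (Ideal.Quotient.mk (Ideal.span (CRel R m v))) (X y) (k + 1)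

section Span

/-- The subalgebra part `R[x₂, x₃]`. -/
noncomputable def img : MvPolynomial (Fin 2) R →ₐ[R] Ac := aeval ![ax v .x2, ax v .x3]

theorem img_mem (i0 : Fin m) (g : MvPolynomial (Fin 2) R) :
    img v g ∈ Submodule.span R (Set.range (cmon R m v)) := by
  let b := v .cb - v .c
  let d := dC v i0
  have hrel : ∀ p ∈ Ideal.span ({X 0 * X 1 ^ 2 - X 0 ^ 2 * X 1 -
      (C (v .a) * X 0 * X 1 + C b * X 0 + C (v .c) * X 1 + C d)} : Set (MvPolynomial (Fin 2) R)), img v p = 0 := by
    intro p hp
    refine (RingHom.mem_ker (f := (img v : _ →+* Ac))).1 (Ideal.span_le.2 ?_ hp)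
    rintro _ rfl
    have hG := (arel2 v i0).cubic (arel3 v i0)
    rw [SetLike.mem_coe, RingHom.mem_ker]
    simp only [img, RingHom.coe_coe, map_sub, map_add, map_mul, map_pow, aeval_X, aeval_C,
      Matrix.cons_val_zero, Matrix.cons_val_one, b, d, algebraMap_dC]
    unfold Cubic at hG
    simp only [av] at hG ⊢
    linear_combination hG
  let L := Ideal.Quotient.liftₐ _ (img v) hrel
  have h : Submodule.span R (Set.range (cmon3 R (v .a) b (v .c) d)) ≤
      (Submodule.span R (Set.range (cmon R m v))).comap L.toLinearMap := by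
    rw [Submodule.span_le]
    rintro _ ⟨t, rfl⟩
    change L (cmon3 R (v .a) b (v .c) d t) ∈ Submodule.span R (Set.range (cmon R m v))
    rw [cmon3_eq]
    change img v (mon3 t) ∈ _
    match t with
    | none =>
      simpa [mon3] using (Submodule.subset_span ⟨none, cmon_none v⟩ :
        (1 : CurveAlg R m v) ∈ Submodule.span R (Set.range (cmon R m v)))
    | some (Sum.inl k) =>
      refine Submodule.subset_span ⟨some (Sum.inl k), ?_⟩
      simp [mon3, img, cmon_inl]
    | some (Sum.inr (y, k)) =>
      fin_cases y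
      · exact Submodule.subset_span ⟨some (Sum.inr (.x2, k)), by simp [mon3, img, cmon_pow]⟩
      · exact Submodule.subset_span ⟨some (Sum.inr (.x3, k)), by simp [mon3, img, cmon_pow]⟩
  rw [(basis3 (v .a) b (v .c) d).2] at h
  exact h (Submodule.mem_top (x := Ideal.Quotient.mk _ g))

/-- `R[x₂,x₃] + R[x_i]`. -/
noncomputable def Wi (i : Fin m) : Submodule R Ac :=
  LinearMap.range (img v).toLinearMap ⊔ LinearMap.range (Polynomial.aeval (R := R) (ax v (.xi i))).toLinearMap

theorem img_mem_Wi (i : Fin m) (g : MvPolynomial (Fin 2) R) : img v g ∈ Wi v i :=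
  Submodule.mem_sup_left ⟨g, rfl⟩

theorem pow_mem_Wi (i : Fin m) (k : ℕ) : ax v (.xi i) ^ k ∈ Wi v i :=
  Submodule.mem_sup_right ⟨Polynomial.X ^ k, by simp⟩

theorem const_mul_mem {W : Submodule R Ac} (t : UGen m) {z : Ac} (hz : z ∈ W) : av v t * z ∈ W := by
  rw [av, ← Algebra.smul_def]; exact W.smul_mem _ hz

theorem xi_img_mem (i : Fin m) (g : MvPolynomial (Fin 2) R) : ax v (.xi i) * img v g ∈ Wi v i := by
  induction g using MvPolynomial.induction_on with
  | C r =>
    rw [img, aeval_C, mul_comm, ← Algebra.smul_def]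
    exact Submodule.smul_mem _ _ (by simpa using pow_mem_Wi v i 1)
  | add p q hp hq => rw [map_add, mul_add]; exact add_mem hp hq
  | mul_X p s hp =>
    have h2 := arel2 v i
    have h3 := arel3 v i
    unfold Rel2 at h2
    unfold Rel3 at h3
    fin_cases s
    · have e : ax v (.xi i) * img v (p * X 0) =
          img v (p * (X 0 * X 1 + C (v (.cbi i)) * X 0 - C (v .c))) +
            av v (.ci i) * (ax v (.xi i) * img v p) := by
        simp only [img, map_mul, map_add, map_sub, aeval_X, aeval_C, Matrix.cons_val_zero, Matrix.cons_val_one]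
        simp only [av] at h2 ⊢
        linear_combination (aeval ![ax v CVar.x2, ax v CVar.x3] p) * h2
      exact e.symm ▸ add_mem (img_mem_Wi v i _) (const_mul_mem v _ hp)
    · have e : ax v (.xi i) * img v (p * X 1) =
          img v (p * (X 0 * X 1 + C (cD v i))) + algebraMap R Ac (cA v i) * (ax v (.xi i) * img v p) := by
        simp only [img, map_mul, map_add, aeval_X, aeval_C, Matrix.cons_val_zero, Matrix.cons_val_one]
        simp only [av, cD, cA, map_add, map_sub, map_mul] at h3 ⊢
        linear_combination (aeval ![ax v CVar.x2, ax v CVar.x3] p) * h3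
      refine e.symm ▸ add_mem (img_mem_Wi v i _) ?_
      rw [← Algebra.smul_def]; exact Submodule.smul_mem _ _ hp

theorem xi_mul_mem (i : Fin m) {z : Ac} (hz : z ∈ Wi v i) : ax v (.xi i) * z ∈ Wi v i := by
  obtain ⟨_, ⟨g, rfl⟩, _, ⟨f, rfl⟩, rfl⟩ := Submodule.mem_sup.1 hz
  rw [mul_add]
  exact add_mem (xi_img_mem v i g) (Submodule.mem_sup_right ⟨Polynomial.X * f, by simp⟩)

theorem pow_img_mem (i : Fin m) (k : ℕ) (g : MvPolynomial (Fin 2) R) :
    ax v (.xi i) ^ k * img v g ∈ Wi v i := by
  induction k with
  | zero => simpa using img_mem_Wi v i g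
  | succ k ih => rw [pow_succ', mul_assoc]; exact xi_mul_mem v i ih

/-- `R[x₂,x₃] + Σ_i R[x_i]`. -/
noncomputable def Wall : Submodule R Ac := LinearMap.range (img v).toLinearMap ⊔ ⨆ i, Wi v i

theorem Wi_le (i : Fin m) : Wi v i ≤ Wall v := le_sup_of_le_right (le_iSup (Wi v) i)

theorem mul_var_mem (y : CVar m) {z : Ac} (hz : z ∈ Wall v) : z * ax v y ∈ Wall v := by
  have himg : ∀ g, img v g * ax v y ∈ Wall v := fun g => by
    match y with
    | .x2 => exact Submodule.mem_sup_left ⟨g * X 0, by simp [img]⟩
    | .x3 => exact Submodule.mem_sup_left ⟨g * X 1, by simp [img]⟩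
    | .xi i => rw [mul_comm]; exact Wi_le v i (xi_img_mem v i g)
  have hpow : ∀ (i : Fin m) k, ax v (.xi i) ^ k * ax v y ∈ Wall v := by
    intro i k
    induction k with
    | zero => simpa using himg 1
    | succ k ih =>
      match y with
      | .x2 =>
        have h2 := arel2 v i
        unfold Rel2 at h2
        have e : ax v (.xi i) ^ (k + 1) * ax v .x2 =
            ax v (.xi i) ^ k * img v (X 0 * X 1 + C (v (.cbi i)) * X 0 - C (v .c)) +
              av v (.ci i) * ax v (.xi i) ^ (k + 1) := by
          simp only [img, map_mul, map_add, map_sub, aeval_X, aeval_C, Matrix.cons_val_zero, Matrix.cons_val_one]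
          simp only [av] at h2 ⊢
          linear_combination (ax v (CVar.xi i) ^ k) * h2
        exact e.symm ▸ Wi_le v i (add_mem (pow_img_mem v i k _) (const_mul_mem v _ (pow_mem_Wi v i _)))
      | .x3 =>
        have h3 := arel3 v i
        unfold Rel3 at h3
        have e : ax v (.xi i) ^ (k + 1) * ax v .x3 =
            ax v (.xi i) ^ k * img v (X 0 * X 1 + C (cD v i)) +
              algebraMap R Ac (cA v i) * ax v (.xi i) ^ (k + 1) := by
          simp only [img, map_mul, map_add, aeval_X, aeval_C, Matrix.cons_val_zero, Matrix.cons_val_one]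
          simp only [av, cD, cA, map_add, map_sub, map_mul] at h3 ⊢
          linear_combination (ax v (CVar.xi i) ^ k) * h3
        refine e.symm ▸ Wi_le v i (add_mem (pow_img_mem v i k _) ?_)
        rw [← Algebra.smul_def]; exact Submodule.smul_mem _ _ (pow_mem_Wi v i _)
      | .xi j =>
        by_cases h : i = j
        · subst h; exact Wi_le v i (by rw [← pow_succ]; exact pow_mem_Wi v i _)
        have hP := arelP v i j h
        unfold RelP at hP
        have e : ax v (.xi i) ^ (k + 1) * ax v (.xi j) =
            ax v (.xi i) ^ k * img v (X 0 * X 1 - C (v .c)) + av v (.cij i j h) * (ax v (.xi i) ^ k * ax v (.xi j)) +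
              av v (.cij j i (Ne.symm h)) * ax v (.xi i) ^ (k + 1) := by
          simp only [img, map_mul, map_sub, aeval_X, aeval_C, Matrix.cons_val_zero, Matrix.cons_val_one]
          simp only [av] at hP ⊢
          linear_combination (ax v (CVar.xi i) ^ k) * hP
        exact e.symm ▸ add_mem (add_mem (Wi_le v i (pow_img_mem v i k _)) (const_mul_mem v _ ih))
          (Wi_le v i (const_mul_mem v _ (pow_mem_Wi v i _)))
  let W' := (Wall v).comap (LinearMap.mulRight R (ax v y))
  suffices h : Wall v ≤ W' from h hz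
  have hrange : ∀ i, LinearMap.range (Polynomial.aeval (R := R) (ax v (.xi i))).toLinearMap ≤ W' := by
    rintro i _ ⟨f, rfl⟩
    induction f using Polynomial.induction_on' with
    | add p q hp hq => rw [map_add]; exact add_mem hp hq
    | monomial k r =>
      rw [← Polynomial.smul_X_eq_monomial, map_smul]
      refine Submodule.smul_mem _ _ ?_
      change Polynomial.aeval (R := R) (ax v (CVar.xi i)) (Polynomial.X ^ k) * ax v y ∈ Wall v
      rw [map_pow, Polynomial.aeval_X]
      exact hpow i k
  have hi : LinearMap.range (img v).toLinearMap ≤ W' := by rintro _ ⟨g, rfl⟩; exact himg g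
  exact sup_le hi (iSup_le fun i => sup_le hi (hrange i))

theorem span_cmon_eq_top (i0 : Fin m) : Submodule.span R (Set.range (cmon R m v)) = ⊤ := by
  rw [eq_top_iff]
  rintro z -
  obtain ⟨p, rfl⟩ := Ideal.Quotient.mk_surjective z
  have hW : Wall v ≤ Submodule.span R (Set.range (cmon R m v)) := by
    have hi : LinearMap.range (img v).toLinearMap ≤ Submodule.span R (Set.range (cmon R m v)) := by
      rintro _ ⟨g, rfl⟩; exact img_mem v i0 g
    refine sup_le hi (iSup_le fun i => sup_le hi ?_)
    rintro _ ⟨f, rfl⟩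
    induction f using Polynomial.induction_on' with
    | add p q hp hq => rw [map_add]; exact add_mem hp hq
    | monomial k r =>
      rw [← Polynomial.smul_X_eq_monomial, map_smul]
      refine Submodule.smul_mem _ _ ?_
      change Polynomial.aeval (R := R) (ax v (CVar.xi i)) (Polynomial.X ^ k) ∈ _
      rw [map_pow, Polynomial.aeval_X]
      cases k with
      | zero => exact Submodule.subset_span ⟨none, (cmon_none v).trans (pow_zero _).symm⟩
      | succ k => exact Submodule.subset_span ⟨some (Sum.inr (.xi i, k)), cmon_pow v _ _⟩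
  refine hW ?_
  induction p using MvPolynomial.induction_on with
  | C r => exact Submodule.mem_sup_left ⟨C r, by simp [img]; rfl⟩
  | add p q hp hq => rw [map_add]; exact add_mem hp hq
  | mul_X p s hp => rw [map_mul]; exact mul_var_mem v s hp

end Span

section Converse

theorem sat_of_indep (i0 : Fin m) (hLI : LinearIndependent R (cmon R m v)) : Sat v := by
  let B := Module.Basis.mk hLI (span_cmon_eq_top v i0).ge
  have hB : ∀ t, B t = cmon R m v t := fun t => Module.Basis.mk_apply _ _ t
  classical
  have hcoef : ∀ t s, B.repr (cmon R m v t) s = if t = s then 1 else 0 := fun t s => by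
    rw [← hB, B.repr_self, Finsupp.single_apply]
  have hsm : ∀ (r : R) (w : Ac), algebraMap R Ac r * w = r • w := fun r w => (Algebra.smul_def r w).symm
  have key : ∀ i j (h : i ≠ j),
      (v (.cij i j h) + v (.cij j i h.symm) = v .a + v (.ci i) + v (.cbi i) + v (.ci j) + v (.cbi j)) ∧
      (v (.cij j i h.symm) * v (.ci j) + v (.cij i j h) * v (.ci i) - v (.ci i) * v (.ci j) = v .c) ∧
      (v (.cij j i h.symm) * v (.cbi i) + v (.cij i j h) * v (.cbi j) - v (.cbi i) * v (.cbi j) = v .cb) := by
    intro i j h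
    let Li := v (.cij i j h)
    let Lj := v (.cij j i h.symm)
    have hi := arel2 v i
    have hj := arel2 v j
    have hP := arelP v i j h
    have hXP := (arel2 v j).mul_p (arel3 v j)
    have e : (Li + Lj) • cmon R m v (some (Sum.inl 0)) +
        (Li * v (.cbi j) + Lj * v (.cbi i) - v .c) • cmon R m v (some (Sum.inr (.x2, 0))) +
        (Li * v (.ci j)) • cmon R m v (some (Sum.inr (.xi j, 0))) +
        (Lj * v (.ci i)) • cmon R m v (some (Sum.inr (.xi i, 0))) +
        (-(v .c * (Li + Lj))) • cmon R m v none =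
        (cA v j + v (.ci i) + v (.cbi i)) • cmon R m v (some (Sum.inl 0)) +
        (v .cb - v .c + v (.cbi i) * v (.cbi j)) • cmon R m v (some (Sum.inr (.x2, 0))) +
        (v (.ci j) * cA v j + v (.ci i) * Li + v (.cbi i) * v (.ci j) - v .c) •
          cmon R m v (some (Sum.inr (.xi j, 0))) +
        (Lj * v (.ci i)) • cmon R m v (some (Sum.inr (.xi i, 0))) +
        (-(cA v j * v .c) - v (.ci i) * v .c - v (.cbi i) * v .c) • cmon R m v none := by
      simp only [cmon_inl, cmon_pow, cmon_none, ← hsm, zero_add, pow_one, mul_one, Li, Lj]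
      simp only [Rel2, RelP, cA, av, map_add, map_sub, map_mul, map_neg] at hi hj hP hXP ⊢
      linear_combination (-ax v .x2) * hP + ax v (CVar.xi j) * hi -
        algebraMap R Ac (v (.cij i j h)) * hj - algebraMap R Ac (v (.cij j i h.symm)) * hi +
        algebraMap R Ac (v (.ci i)) * hP + algebraMap R Ac (v (.cbi i)) * hj + hXP
    have e' := fun s => congrArg (fun w => B.repr w s) e
    have e1 := e' (some (Sum.inl 0))
    have e2 := e' (some (Sum.inr (.x2, 0)))
    have e3 := e' (some (Sum.inr (.xi j, 0)))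
    simp [hcoef, h, h.symm] at e1 e2 e3
    simp only [cA] at e1 e2 e3
    have hL : Li + Lj = v .a + v (.ci i) + v (.cbi i) + v (.ci j) + v (.cbi j) := by linear_combination e1
    exact ⟨hL, by linear_combination v (.ci j) * hL - e3, by linear_combination e2⟩
  refine ⟨fun i j h => (key i j h).1, fun i j h => (key i j h).2.1, fun i j h => (key i j h).2.2,
    fun i j l hij hjl hil => ?_⟩
  let Lij := v (.cij i j hij)
  let Lji := v (.cij j i hij.symm)
  let Lil := v (.cij i l hil)
  let Lli := v (.cij l i hil.symm)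
  let Ljl := v (.cij j l hjl)
  let Llj := v (.cij l j hjl.symm)
  have hl := (arel2 v l).mul_p (arel3 v l)
  have hii := (arel2 v i).mul_p (arel3 v i)
  have p1 := arelP v i j hij
  have p2 := arelP v j l hjl
  have p3 := arelP v i l hil
  have e : (cA v l + Lji + Lij) • cmon R m v (some (Sum.inl 0)) +
      (v (.ci l) * cA v l + Lij * Ljl + Lji * Lil - v .c) • cmon R m v (some (Sum.inr (.xi l, 0))) +
      (Lij * Llj) • cmon R m v (some (Sum.inr (.xi j, 0))) +
      (Lji * Lli) • cmon R m v (some (Sum.inr (.xi i, 0))) +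
      (-(cA v l * v .c) - Lij * v .c - Lji * v .c) • cmon R m v none =
      (cA v i + Ljl + Llj) • cmon R m v (some (Sum.inl 0)) +
      (Ljl * Lil) • cmon R m v (some (Sum.inr (.xi l, 0))) +
      (Llj * Lij) • cmon R m v (some (Sum.inr (.xi j, 0))) +
      (v (.ci i) * cA v i + Ljl * Lli + Llj * Lji - v .c) • cmon R m v (some (Sum.inr (.xi i, 0))) +
      (-(cA v i * v .c) - Ljl * v .c - Llj * v .c) • cmon R m v none := by
    simp only [cmon_inl, cmon_pow, cmon_none, ← hsm, zero_add, pow_one, mul_one, Lij, Lji, Lil, Lli, Ljl, Llj]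
    simp only [RelP, cA, av, map_add, map_sub, map_mul, map_neg] at hl hii p1 p2 p3 ⊢
    linear_combination ax v (CVar.xi i) * p2 - ax v (CVar.xi l) * p1 - hl + hii -
      algebraMap R Ac (v (.cij i j hij)) * p2 - algebraMap R Ac (v (.cij j i hij.symm)) * p3 +
      algebraMap R Ac (v (.cij j l hjl)) * p3 + algebraMap R Ac (v (.cij l j hjl.symm)) * p1
  have e3 := congrArg (fun w => B.repr w (some (Sum.inr (.xi l, 0)))) e
  simp [hcoef, hij, hjl, hil, hij.symm, hjl.symm, hil.symm] at e3
  simp only [cA] at e3
  linear_combination e3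

end Converse

end Groth.Agent.M1CurvLib
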