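import Mathlib

/-!
# Bases of presented algebras from commuting operators
-/

universe u v w

namespace Groth.Agent.M1CurvLib

open MvPolynomial

variable {R : Type u} [CommRing R] {σ : Type v} {ι : Type w}

/-- The action of polynomials through commuting operators. -/
theorem exists_opsHom {V : Type w} [AddCommGroup V] [Module R V] (T : σ → Module.End R V)
    (hT : ∀ s t, T s * T t = T t * T s) :
    ∃ F : MvPolynomial σ R →ₐ[R] Module.End R V, ∀ s, F (X s) = T s := by
  have hc : ∀ a ∈ Set.range T, ∀ b ∈ Set.range T, a * b = b * a := by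
    rintro _ ⟨s, rfl⟩ _ ⟨t, rfl⟩; exact hT s t
  letI := Algebra.adjoinCommRingOfComm R hc
  exact ⟨(Algebra.adjoin R (Set.range T)).val.comp
    (aeval fun s => (⟨T s, Algebra.subset_adjoin ⟨s, rfl⟩⟩ : Algebra.adjoin R (Set.range T))),
    fun s => by simp⟩

variable [DecidableEq ι]

theorem basis_of_ops (rels : Set (MvPolynomial σ R)) (mon : ι → MvPolynomial σ R) (e₀ : ι)
    (h₀ : mon e₀ = 1) (T : σ → Module.End R (ι →₀ R)) (hT : ∀ s t, T s * T t = T t * T s)
    (hrel : ∀ (F : MvPolynomial σ R →ₐ[R] Module.End R (ι →₀ R)), (∀ s, F (X s) = T s) →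
      ∀ p ∈ rels, F p (Finsupp.single e₀ 1) = 0)
    (hmon : ∀ (F : MvPolynomial σ R →ₐ[R] Module.End R (ι →₀ R)), (∀ s, F (X s) = T s) →
      ∀ t, F (mon t) (Finsupp.single e₀ 1) = Finsupp.single t 1)
    (hmul : ∀ s v, Finsupp.linearCombination R (fun t => Ideal.Quotient.mk (Ideal.span rels) (mon t)) (T s v) =
      Ideal.Quotient.mk (Ideal.span rels) (X s) *
        Finsupp.linearCombination R (fun t => Ideal.Quotient.mk (Ideal.span rels) (mon t)) v) :
    LinearIndependent R (fun t => Ideal.Quotient.mk (Ideal.span rels) (mon t)) ∧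
      Submodule.span R (Set.range fun t => Ideal.Quotient.mk (Ideal.span rels) (mon t)) = ⊤ := by
  obtain ⟨F, hF⟩ := exists_opsHom T hT
  let ev : MvPolynomial σ R →ₗ[R] ι →₀ R :=
    (LinearMap.applyₗ (Finsupp.single e₀ (1 : R))).comp F.toLinearMap
  have hker : ∀ p ∈ Ideal.span rels, ev p = 0 := by
    intro p hp
    induction hp using Submodule.span_induction with
    | mem q hq => exact hrel F hF q hq
    | zero => exact map_zero ev
    | add x y _ _ hx hy => rw [map_add, hx, hy, add_zero]
    | smul r x _ hx =>
      change F (r * x) (Finsupp.single e₀ 1) = 0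
      rw [map_mul, Module.End.mul_apply]
      exact (congrArg (F r) hx).trans (map_zero _)
  let φ := Finsupp.linearCombination R (fun t => Ideal.Quotient.mk (Ideal.span rels) (mon t))
  have hφ : ∀ p, φ (ev p) = Ideal.Quotient.mk (Ideal.span rels) p := by
    intro p
    induction p using MvPolynomial.induction_on with
    | C r =>
      change φ (F (C r) (Finsupp.single e₀ 1)) = _
      rw [← algebraMap_eq, AlgHom.commutes, Module.algebraMap_end_apply, map_smul,
        Finsupp.linearCombination_single, one_smul, h₀, map_one]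
      exact (Algebra.algebraMap_eq_smul_one r).symm
    | add p q hp hq => rw [map_add, map_add, hp, hq, map_add]
    | mul_X p s hp =>
      change φ (F (p * X s) (Finsupp.single e₀ 1)) = _
      rw [mul_comm, map_mul, hF, Module.End.mul_apply, hmul, map_mul]
      exact congrArg _ hp
  refine ⟨?_, eq_top_iff.2 fun z _ => ?_⟩
  · rw [linearIndependent_iff_injective_finsuppLinearCombination]
    let ψ : (MvPolynomial σ R ⧸ Ideal.span rels) →ₗ[R] ι →₀ R :=
      (Submodule.liftQ ((Ideal.span rels).restrictScalars R) ev hker).comp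
        (Submodule.Quotient.restrictScalarsEquiv R (Ideal.span rels)).symm.toLinearMap
    refine Function.LeftInverse.injective (g := ψ) fun v => ?_
    induction v using Finsupp.induction_linear with
    | zero => rw [map_zero, map_zero]
    | add x y hx hy => rw [map_add, map_add, hx, hy]
    | single t r =>
      rw [Finsupp.linearCombination_single, map_smul]
      change r • ev (mon t) = _
      rw [show ev (mon t) = Finsupp.single t 1 from hmon F hF t, Finsupp.smul_single, smul_eq_mul, mul_one]
  · obtain ⟨p, rfl⟩ := Ideal.Quotient.mk_surjective z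
    rw [← hφ p, ← Finsupp.range_linearCombination]
    exact LinearMap.mem_range_self _ _

end Groth.Agent.M1CurvLib
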