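import Mathlib

/-!
# Generating series of graded index types
-/

universe u v w

namespace Groth.Agent.M1CurvLib

open PowerSeries

/-- The fibres of `f` are finite and counted by `F`. -/
def HasSeries {α : Type u} (f : α → ℕ) (F : PowerSeries ℤ) : Prop :=
  ∀ d, Finite {a // f a = d} ∧ (Nat.card {a // f a = d} : ℤ) = coeff d F

variable {α : Type u} {β : Type v} {f : α → ℕ} {g : β → ℕ} {F G : PowerSeries ℤ}

theorem HasSeries.congr (h : HasSeries f F) (e : β ≃ α) (he : ∀ b, f (e b) = g b) : HasSeries g F := fun d => by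
  have E : {b // g b = d} ≃ {a // f a = d} := e.subtypeEquiv fun b => by rw [he b]
  obtain ⟨h1, h2⟩ := h d
  exact ⟨Finite.of_equiv _ E.symm, by rw [Nat.card_congr E, h2]⟩

theorem HasSeries.prod (hf : HasSeries f F) (hg : HasSeries g G) :
    HasSeries (fun p : α × β => f p.1 + g p.2) (F * G) := fun d => by
  have E : {p : α × β // f p.1 + g p.2 = d} ≃
      Σ q : {q : ℕ × ℕ // q ∈ Finset.HasAntidiagonal.antidiagonal d}, {a // f a = q.1.1} × {b // g b = q.1.2} :=
    { toFun := fun p => ⟨⟨(f p.1.1, g p.1.2), Finset.HasAntidiagonal.mem_antidiagonal.2 p.2⟩, ⟨p.1.1, rfl⟩, ⟨p.1.2, rfl⟩⟩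
      invFun := fun s => ⟨(s.2.1.1, s.2.2.1), by rw [s.2.1.2, s.2.2.2]; exact Finset.HasAntidiagonal.mem_antidiagonal.1 s.1.2⟩
      left_inv := fun p => rfl
      right_inv := by
        rintro ⟨⟨⟨x, y⟩, hq⟩, ⟨a, ha⟩, ⟨b, hb⟩⟩
        change f a = x at ha
        change g b = y at hb
        subst ha hb
        rfl }
  haveI : ∀ q : {q : ℕ × ℕ // q ∈ Finset.HasAntidiagonal.antidiagonal d}, Finite ({a // f a = q.1.1} × {b // g b = q.1.2}) :=
    fun q => by
      haveI := (hf q.1.1).1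
      haveI := (hg q.1.2).1
      infer_instance
  refine ⟨Finite.of_equiv _ E.symm, ?_⟩
  rw [Nat.card_congr E, Nat.card_sigma, coeff_mul,
    ← Finset.sum_coe_sort (Finset.HasAntidiagonal.antidiagonal d)]
  push_cast
  refine Finset.sum_congr rfl fun q _ => ?_
  rw [Nat.card_prod, Nat.cast_mul, (hf q.1.1).2, (hg q.1.2).2]

theorem hasSeries_id : HasSeries (fun n : ℕ => n) (mk fun _ => (1 : ℤ)) := fun d => by
  haveI : Unique {n : ℕ // n = d} := ⟨⟨⟨d, rfl⟩⟩, fun n => Subtype.ext n.2⟩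
  exact ⟨inferInstance, by rw [Nat.card_unique, coeff_mk]; rfl⟩

theorem hasSeries_fin (n : ℕ) :
    HasSeries (fun s : Fin n → ℕ => ∑ i, s i) ((mk fun _ => (1 : ℤ)) ^ n) := by
  induction n with
  | zero =>
    intro d
    by_cases hd : d = 0
    · subst hd
      haveI : Unique {s : Fin 0 → ℕ // ∑ i, s i = 0} := ⟨⟨⟨default, by simp⟩⟩, fun s => Subsingleton.elim _ _⟩
      exact ⟨inferInstance, by simp⟩
    · haveI : IsEmpty {s : Fin 0 → ℕ // ∑ i, s i = d} := ⟨fun s => hd (by simpa using s.2.symm)⟩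
      exact ⟨inferInstance, by rw [Nat.card_of_isEmpty]; simp [hd]⟩
  | succ n ih =>
    rw [pow_succ']
    exact (hasSeries_id.prod ih).congr (Fin.consEquiv fun _ => ℕ).symm fun s => (Fin.sum_univ_succ s).symm

end Groth.Agent.M1CurvLib
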