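import Groth.Agent.M1CurvLib.Basic

/-!
# The curve over `U_n` is `U_{n+1}`
-/

universe u

namespace Groth.Agent.M1CurvLib

open W4c5m1nsnscurves MvPolynomial

variable (R : Type u) [CommRing R] (m : ℕ)

/-- The class of a variable. -/
noncomputable def cx (y : CVar m) : CurveAlg (URing R m) m (ugen R m) :=
  Ideal.Quotient.mk _ (X y)

/-- Old generators in the curve algebra. -/
noncomputable def cg (x : UGen m) : CurveAlg (URing R m) m (ugen R m) :=
  algebraMap (URing R m) _ (ugen R m x)

theorem cg_def (x : UGen m) : cg R m x = Ideal.Quotient.mk _ (C (ugen R m x)) := rfl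

theorem rel2 (i : Fin m) : cx R m .x2 * cx R m (.xi i) =
    cx R m .x2 * cx R m .x3 + cg R m (.ci i) * cx R m (.xi i) + cg R m (.cbi i) * cx R m .x2 - cg R m .c := by
  simp only [cx, cg_def, ← map_mul, ← map_add, ← map_sub]
  exact Ideal.Quotient.eq.2 (Ideal.subset_span (Or.inl (Or.inl ⟨i, rfl⟩)))

theorem rel3 (i : Fin m) : cx R m .x3 * cx R m (.xi i) =
    cx R m .x2 * cx R m .x3 + (cg R m .a + cg R m (.ci i) + cg R m (.cbi i)) *
      (cx R m (.xi i) - cg R m (.cbi i)) + cg R m .cb - cg R m .c := by
  simp only [cx, cg_def, ← map_mul, ← map_add, ← map_sub]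
  refine Ideal.Quotient.eq.2 (Ideal.subset_span (Or.inl (Or.inr ⟨i, ?_⟩)))
  simp only [map_add]

theorem relij (i j : Fin m) (h : i ≠ j) : cx R m (.xi i) * cx R m (.xi j) =
    cx R m .x2 * cx R m .x3 + cg R m (.cij i j h) * cx R m (.xi j) +
      cg R m (.cij j i h.symm) * cx R m (.xi i) - cg R m .c := by
  simp only [cx, cg_def, ← map_mul, ← map_add, ← map_sub]
  exact Ideal.Quotient.eq.2 (Ideal.subset_span (Or.inr ⟨⟨(i, j), h⟩, rfl⟩))

/-- The values of the generators of `U_{n+1}` in the curve algebra. -/
noncomputable def backVal : UGen (m + 1) → CurveAlg (URing R m) m (ugen R m)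
  | .a => cg R m .a
  | .c => cg R m .c
  | .cb => cg R m .cb
  | .ci i => Fin.lastCases (cx R m .x2) (fun i' => cg R m (.ci i')) i
  | .cbi i => Fin.lastCases (cx R m .x3 - cg R m .a - cx R m .x2) (fun i' => cg R m (.cbi i')) i
  | .cij i j _ => Fin.lastCases
      (Fin.lastCases 0 (fun j' => cx R m .x3 + cg R m (.ci j') + cg R m (.cbi j') - cx R m (.xi j')) j)
      (fun i' => Fin.lastCases (cx R m (.xi i'))
        (fun j' => if h : i' = j' then 0 else cg R m (.cij i' j' h)) j) i

theorem sat_cg : Sat (cg R m) := by
  obtain ⟨h1, h2, h3, h4⟩ := sat_ugen (R := R) (m := m)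
  refine ⟨fun i j h => ?_, fun i j h => ?_, fun i j h => ?_, fun i j l a b c => ?_⟩
  · simp only [cg, ← map_add, h1 i j h]
  · simp only [cg, ← map_add, ← map_sub, ← map_mul, h2 i j h]
  · simp only [cg, ← map_add, ← map_sub, ← map_mul, h3 i j h]
  · simp only [cg, ← map_add, ← map_sub, ← map_mul, h4 i j l a b c]

theorem sat_backVal : Sat (backVal R m) := by
  have hg := sat_cg R m
  have cN : ∀ {i j : Fin m}, (i.castSucc : Fin (m + 1)) ≠ j.castSucc → i ≠ j := fun h e => h (by rw [e])
  refine ⟨?_, ?_, ?_, ?_⟩
  · intro i j h
    induction i using Fin.lastCases with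
    | last =>
      induction j using Fin.lastCases with
      | last => exact absurd rfl h
      | cast j => simp only [backVal, Fin.lastCases_last, Fin.lastCases_castSucc]; ring
    | cast i =>
      induction j using Fin.lastCases with
      | last => simp only [backVal, Fin.lastCases_last, Fin.lastCases_castSucc]; ring
      | cast j =>
        simp only [backVal, Fin.lastCases_castSucc, dif_neg (cN h), dif_neg (cN h.symm)]
        exact hg.lin i j (cN h)
  · intro i j h
    induction i using Fin.lastCases with
    | last =>
      induction j using Fin.lastCases with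
      | last => exact absurd rfl h
      | cast j =>
        simp only [backVal, Fin.lastCases_last, Fin.lastCases_castSucc]
        linear_combination (-1 : CurveAlg (URing R m) m (ugen R m)) * rel2 R m j
    | cast i =>
      induction j using Fin.lastCases with
      | last =>
        simp only [backVal, Fin.lastCases_last, Fin.lastCases_castSucc]
        linear_combination (-1 : CurveAlg (URing R m) m (ugen R m)) * rel2 R m i
      | cast j =>
        simp only [backVal, Fin.lastCases_castSucc, dif_neg (cN h), dif_neg (cN h.symm)]
        exact hg.quad i j (cN h)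
  · intro i j h
    induction i using Fin.lastCases with
    | last =>
      induction j using Fin.lastCases with
      | last => exact absurd rfl h
      | cast j =>
        simp only [backVal, Fin.lastCases_last, Fin.lastCases_castSucc]
        linear_combination rel3 R m j - rel2 R m j
    | cast i =>
      induction j using Fin.lastCases with
      | last =>
        simp only [backVal, Fin.lastCases_last, Fin.lastCases_castSucc]
        linear_combination rel3 R m i - rel2 R m i
      | cast j =>
        simp only [backVal, Fin.lastCases_castSucc, dif_neg (cN h), dif_neg (cN h.symm)]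
        exact hg.quadb i j (cN h)
  · intro i j l hij hjl hil
    induction i using Fin.lastCases with
    | last =>
      induction j using Fin.lastCases with
      | last => exact absurd rfl hij
      | cast i =>
        induction l using Fin.lastCases with
        | last => exact absurd rfl hil
        | cast k =>
          have h := cN hjl
          simp only [backVal, Fin.lastCases_last, Fin.lastCases_castSucc, dif_neg h]
          linear_combination rel3 R m i - relij R m i k h - hg.quadb i k h + hg.quad i k h +
            (cg R m (.cbi i) - cg R m (.ci k) - cx R m (.xi i)) * hg.lin i k h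
    | cast i =>
      induction j using Fin.lastCases with
      | last =>
        induction l using Fin.lastCases with
        | last => exact absurd rfl hjl
        | cast k =>
          have h := cN hil
          simp only [backVal, Fin.lastCases_last, Fin.lastCases_castSucc, dif_neg h]
          linear_combination rel3 R m i - relij R m i k h - hg.quadb i k h + hg.quad i k h +
            (cg R m (.cbi i) - cg R m (.ci k) - cx R m (.xi i)) * hg.lin i k h
      | cast j =>
        induction l using Fin.lastCases with
        | last =>
          have h := cN hij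
          simp only [backVal, Fin.lastCases_last, Fin.lastCases_castSucc, dif_neg h, dif_neg h.symm]
          linear_combination (-1 : CurveAlg (URing R m) m (ugen R m)) * relij R m i j h
        | cast l =>
          simp only [backVal, Fin.lastCases_castSucc, dif_neg (cN hij), dif_neg (cN hjl), dif_neg (cN hil),
            dif_neg (cN hij.symm)]
          exact hg.tri i j l (cN hij) (cN hjl) (cN hil)

/-- Values of the curve variables in `U_{n+1}`. -/
noncomputable def fwdVal : CVar m → URing R (m + 1)
  | .x2 => ugen R (m + 1) (.ci (Fin.last m))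
  | .x3 => ugen R (m + 1) .a + ugen R (m + 1) (.ci (Fin.last m)) + ugen R (m + 1) (.cbi (Fin.last m))
  | .xi i => ugen R (m + 1) (.cij i.castSucc (Fin.last m) (Fin.castSucc_lt_last i).ne)

/-- The map `O(C_n) → O(U_{n+1})`. -/
noncomputable def fwd : CurveAlg (URing R m) m (ugen R m) →+* URing R (m + 1) :=
  Ideal.Quotient.lift _ (eval₂Hom (uincl R m : URing R m →+* URing R (m + 1)) (fwdVal R m)) fun p hp => by
    refine (RingHom.mem_ker (f := eval₂Hom _ (fwdVal R m))).1 (Ideal.span_le.2 (fun q hq => ?_) hp)
    obtain ⟨h1, h2, h3, h4⟩ := sat_ugen (R := R) (m := m + 1)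
    simp only [CRel, Set.mem_union, Set.mem_range] at hq
    rw [SetLike.mem_coe, RingHom.mem_ker]
    rcases hq with (⟨i, rfl⟩ | ⟨i, rfl⟩) | ⟨⟨⟨i, j⟩, hij⟩, rfl⟩ <;>
      simp only [map_sub, map_add, map_mul, eval₂Hom_X', eval₂Hom_C, RingHom.coe_coe, uincl_ugen,
        UGen.castSucc, fwdVal]
    · have hne := (Fin.castSucc_lt_last i).ne
      linear_combination (ugen R (m + 1) (.ci (Fin.last m))) * h1 _ _ hne - h2 _ _ hne
    · have hne := (Fin.castSucc_lt_last i).ne
      linear_combination h3 _ _ hne - h2 _ _ hne +
        (ugen R (m + 1) (.ci (Fin.last m)) - ugen R (m + 1) (.cbi i.castSucc)) * h1 _ _ hne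
    · have hne : i.castSucc ≠ j.castSucc := fun e => hij (Fin.castSucc_injective _ e)
      linear_combination (-1 : URing R (m + 1)) * h4 _ _ _ hne (Fin.castSucc_lt_last j).ne
        (Fin.castSucc_lt_last i).ne

/-- The map `O(U_{n+1}) → O(C_n)`. -/
noncomputable def back : URing R (m + 1) →+* CurveAlg (URing R m) m (ugen R m) :=
  ulift ((algebraMap (URing R m) (CurveAlg (URing R m) m (ugen R m))).comp (algebraMap R (URing R m))) (backVal R m) (sat_backVal R m)

theorem fwd_cx (y : CVar m) : fwd R m (cx R m y) = fwdVal R m y := eval₂_X _ _ y

theorem fwd_algebraMap (r : URing R m) :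
    fwd R m (algebraMap (URing R m) _ r) = uincl R m r := eval₂_C _ _ r

theorem fwd_cg (x : UGen m) : fwd R m (cg R m x) = ugen R (m + 1) x.castSucc :=
  (fwd_algebraMap R m _).trans (uincl_ugen x)

theorem back_ugen (x : UGen (m + 1)) : back R m (ugen R (m + 1) x) = backVal R m x := ulift_ugen _ _ _ x

theorem fwd_back (z : URing R (m + 1)) : fwd R m (back R m z) = z := by
  suffices h : (fwd R m).comp (back R m) = RingHom.id _ from congrArg (fun f => f z) h
  refine Ideal.Quotient.ringHom_ext (MvPolynomial.ringHom_ext (fun r => ?_) fun x => ?_)
  · change fwd R m (back R m (algebraMap R (URing R (m + 1)) r)) = algebraMap R (URing R (m + 1)) r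
    rw [back, ulift_algebraMap, RingHom.comp_apply, fwd_algebraMap, AlgHom.commutes]
  · change fwd R m (back R m (ugen R (m + 1) x)) = ugen R (m + 1) x
    rw [back_ugen]
    obtain ⟨h1, -, -, -⟩ := sat_ugen (R := R) (m := m + 1)
    match x with
    | .a => exact fwd_cg R m .a
    | .c => exact fwd_cg R m .c
    | .cb => exact fwd_cg R m .cb
    | .ci i =>
      induction i using Fin.lastCases with
      | last => simp only [backVal, Fin.lastCases_last, fwd_cx, fwdVal]
      | cast i => simp only [backVal, Fin.lastCases_castSucc, fwd_cg, UGen.castSucc]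
    | .cbi i =>
      induction i using Fin.lastCases with
      | last =>
        simp only [backVal, Fin.lastCases_last, map_sub, fwd_cx, fwd_cg, fwdVal, UGen.castSucc]; ring
      | cast i => simp only [backVal, Fin.lastCases_castSucc, fwd_cg, UGen.castSucc]
    | .cij i j h =>
      induction i using Fin.lastCases with
      | last =>
        induction j using Fin.lastCases with
        | last => exact absurd rfl h
        | cast j =>
          simp only [backVal, Fin.lastCases_last, Fin.lastCases_castSucc, map_sub, map_add, fwd_cx, fwd_cg,
            fwdVal, UGen.castSucc]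
          linear_combination (-1 : URing R (m + 1)) * h1 _ _ h
      | cast i =>
        induction j using Fin.lastCases with
        | last => simp only [backVal, Fin.lastCases_last, Fin.lastCases_castSucc, fwd_cx, fwdVal]
        | cast j =>
          simp only [backVal, Fin.lastCases_castSucc, dif_neg (show i ≠ j from fun e => h (by rw [e])),
            fwd_cg, UGen.castSucc]

theorem back_uincl (r : URing R m) : back R m (uincl R m r) = algebraMap _ _ r := by
  suffices h : (back R m).comp (uincl R m : URing R m →+* URing R (m + 1)) =
      algebraMap (URing R m) (CurveAlg (URing R m) m (ugen R m)) from congrArg (fun f => f r) h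
  refine Ideal.Quotient.ringHom_ext (MvPolynomial.ringHom_ext (fun r => ?_) fun x => ?_)
  · change back R m (uincl R m (algebraMap R (URing R m) r)) = _
    rw [AlgHom.commutes, back, ulift_algebraMap]
    rfl
  · change back R m (uincl R m (ugen R m x)) = cg R m x
    rw [uincl_ugen, back_ugen]
    match x with
    | .a => rfl
    | .c => rfl
    | .cb => rfl
    | .ci i => simp only [UGen.castSucc, backVal, Fin.lastCases_castSucc]
    | .cbi i => simp only [UGen.castSucc, backVal, Fin.lastCases_castSucc]
    | .cij i j h => simp only [UGen.castSucc, backVal, Fin.lastCases_castSucc, dif_neg h]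

theorem back_fwd (z : CurveAlg (URing R m) m (ugen R m)) : back R m (fwd R m z) = z := by
  suffices h : (back R m).comp (fwd R m) = RingHom.id _ from congrArg (fun f => f z) h
  refine Ideal.Quotient.ringHom_ext (MvPolynomial.ringHom_ext (fun r => ?_) fun y => ?_)
  · change back R m (fwd R m (algebraMap (URing R m) _ r)) = algebraMap (URing R m) _ r
    rw [fwd_algebraMap, back_uincl]
  · change back R m (fwd R m (cx R m y)) = cx R m y
    rw [fwd_cx]
    match y with
    | .x2 => simp only [fwdVal, back_ugen, backVal, Fin.lastCases_last]
    | .x3 => simp only [fwdVal, map_add, back_ugen, backVal, Fin.lastCases_last]; ring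
    | .xi i => simp only [fwdVal, back_ugen, backVal, Fin.lastCases_last, Fin.lastCases_castSucc]

/-- `O(C_n) ≅ O(U_{n+1})`. -/
noncomputable def succEquiv : CurveAlg (URing R m) m (ugen R m) ≃+* URing R (m + 1) :=
  RingEquiv.ofRingHom (fwd R m) (back R m) (RingHom.ext (fwd_back R m)) (RingHom.ext (back_fwd R m))

end Groth.Agent.M1CurvLib
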