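import Groth.Agent.M1CurvLib.CurveIndep
import Groth.Agent.M1CurvLib.Succ
import Groth.Agent.M1CurvLib.Series
import Groth.Agent.S18247

/-!
# The graded basis of the coordinate ring of `U_n`
-/

universe u

namespace Groth.Agent.M1CurvLib

open W4c5m1nsnscurves

variable {R : Type u} [CommRing R] {m : ℕ}

/-- The weight map `z ↦ Σ z_d T^d`. -/
noncomputable def grade (R : Type u) [CommRing R] (m : ℕ) : URing R m →+* Polynomial (URing R m) :=
  ulift ((Polynomial.C).comp (algebraMap R (URing R m)))
    (fun x => Polynomial.C (ugen R m x) * Polynomial.X ^ uwt x) (by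
      obtain ⟨h1, h2, h3, h4⟩ := sat_ugen (R := R) (m := m)
      refine ⟨fun i j h => ?_, fun i j h => ?_, fun i j h => ?_, fun i j l a b c => ?_⟩
      · have e := congrArg (Polynomial.C : _ →+* Polynomial (URing R m)) (h1 i j h)
        simp only [map_add] at e
        simp only [uwt, pow_one]
        linear_combination Polynomial.X * e
      · have e := congrArg (Polynomial.C : _ →+* Polynomial (URing R m)) (h2 i j h)
        simp only [map_add, map_sub, map_mul] at e
        simp only [uwt, pow_one]
        linear_combination Polynomial.X ^ 2 * e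
      · have e := congrArg (Polynomial.C : _ →+* Polynomial (URing R m)) (h3 i j h)
        simp only [map_add, map_sub, map_mul] at e
        simp only [uwt, pow_one]
        linear_combination Polynomial.X ^ 2 * e
      · have e := congrArg (Polynomial.C : _ →+* Polynomial (URing R m)) (h4 i j l a b c)
        simp only [map_add, map_sub, map_mul] at e
        simp only [uwt, pow_one]
        linear_combination Polynomial.X ^ 2 * e)

/-- `z` is homogeneous of weight `d`. -/
def IsHom (d : ℕ) (z : URing R m) : Prop := grade R m z = Polynomial.C z * Polynomial.X ^ d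

theorem isHom_ugen (x : UGen m) : IsHom (uwt x) (ugen R m x) := ulift_ugen _ _ _ x

theorem isHom_algebraMap (r : R) : IsHom 0 (algebraMap R (URing R m) r) := by
  rw [IsHom, grade, ulift_algebraMap, pow_zero, mul_one]; rfl

theorem isHom_one : IsHom 0 (1 : URing R m) := by simp [IsHom]

theorem IsHom.mul {a b : ℕ} {x y : URing R m} (hx : IsHom a x) (hy : IsHom b y) : IsHom (a + b) (x * y) := by
  simp only [IsHom] at *
  rw [map_mul, hx, hy, map_mul, pow_add]; ring

theorem IsHom.pow {a : ℕ} {x : URing R m} (hx : IsHom a x) (k : ℕ) : IsHom (a * k) (x ^ k) := by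
  simp only [IsHom] at *
  rw [map_pow, hx, map_pow]; ring

theorem IsHom.add {a : ℕ} {x y : URing R m} (hx : IsHom a x) (hy : IsHom a y) : IsHom a (x + y) := by
  simp only [IsHom] at *
  rw [map_add, hx, hy, map_add, add_mul]

theorem IsHom.uincl {a : ℕ} {x : URing R m} (hx : IsHom a x) :
    IsHom a (W4c5m1nsnscurves.uincl R m x) := by
  have h : (grade R (m + 1)).comp (W4c5m1nsnscurves.uincl R m : URing R m →+* URing R (m + 1)) =
      (Polynomial.mapRingHom (W4c5m1nsnscurves.uincl R m : URing R m →+* URing R (m + 1))).comp (grade R m) := by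
    refine Ideal.Quotient.ringHom_ext (MvPolynomial.ringHom_ext (fun r => ?_) fun y => ?_)
    · change grade R (m + 1) (W4c5m1nsnscurves.uincl R m (algebraMap R (URing R m) r)) =
        Polynomial.map _ (grade R m (algebraMap R (URing R m) r))
      rw [AlgHom.commutes, grade, grade, ulift_algebraMap, ulift_algebraMap, RingHom.comp_apply,
        RingHom.comp_apply, Polynomial.map_C, RingHom.coe_coe, AlgHom.commutes]
    · change grade R (m + 1) (W4c5m1nsnscurves.uincl R m (ugen R m y)) = Polynomial.map _ (grade R m (ugen R m y))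
      rw [uincl_ugen, grade, grade, ulift_ugen, ulift_ugen, Polynomial.map_mul, Polynomial.map_pow,
        Polynomial.map_X, Polynomial.map_C, RingHom.coe_coe, uincl_ugen]
      congr 2
      cases y <;> rfl
  simp only [IsHom] at *
  have h' := congrArg (fun F => F x) h
  simp only [RingHom.comp_apply, RingHom.coe_coe, Polynomial.coe_mapRingHom, hx, Polynomial.map_mul,
    Polynomial.map_pow, Polynomial.map_X, Polynomial.map_C] at h'
  exact h'

theorem coeff_grade {d e : ℕ} {z : URing R m} (h : IsHom d z) :
    (grade R m z).coeff e = if e = d then z else 0 := by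
  rw [h, Polynomial.coeff_C_mul_X_pow]

theorem smul_eq (r : R) (a : URing R m) : r • a = algebraMap R (URing R m) r * a := by
  obtain ⟨p, rfl⟩ := Ideal.Quotient.mk_surjective a
  change Ideal.Quotient.mk _ (r • p) = Ideal.Quotient.mk _ (MvPolynomial.C r) * _
  rw [MvPolynomial.smul_eq_C_mul, map_mul]

/-- The weight-`d` projection. -/
noncomputable def wproj (R : Type u) [CommRing R] (m d : ℕ) : URing R m →ₗ[R] URing R m where
  toFun z := (grade R m z).coeff d
  map_add' a b := by rw [map_add, Polynomial.coeff_add]
  map_smul' r a := by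
    rw [smul_eq, map_mul, isHom_algebraMap r, pow_zero, mul_one, Polynomial.coeff_C_mul,
      RingHom.id_apply, smul_eq]

theorem mem_upiece_iff (d : ℕ) (z : URing R m) : z ∈ upiece R m d ↔ IsHom d z := by
  have key : ∀ d, ∀ p ∈ MvPolynomial.weightedHomogeneousSubmodule R (uwt (m := m)) d,
      IsHom d (Ideal.Quotient.mk (Ideal.span (URel R m)) p) := by
    intro d p hp
    rw [p.as_sum, map_sum]
    simp only [IsHom, map_sum, Finset.sum_mul]
    refine Finset.sum_congr rfl fun s hs => ?_
    have hw : Finsupp.weight uwt s = d := hp (MvPolynomial.mem_support_iff.1 hs)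
    have hprod : IsHom d (algebraMap R (URing R m) (p.coeff s) *
        s.prod fun x k => ugen R m x ^ k) := by
      have h2 : ∀ T : Finset (UGen m), IsHom (∑ x ∈ T, s x * uwt x) (∏ x ∈ T, ugen R m x ^ s x) := by
        classical
        intro T
        induction T using Finset.induction with
        | empty => simpa using isHom_one
        | insert a T ha ih =>
          rw [Finset.sum_insert ha, Finset.prod_insert ha, mul_comm (s a)]
          exact ((isHom_ugen a).pow (s a)).mul ih
      have h3 := (isHom_algebraMap (m := m) (p.coeff s)).mul (h2 s.support)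
      rw [zero_add, show (∑ x ∈ s.support, s x * uwt x) = d by
        rw [← hw, Finsupp.weight_apply, Finsupp.sum]; simp] at h3
      exact h3
    rw [show Ideal.Quotient.mk (Ideal.span (URel R m)) (MvPolynomial.monomial s (p.coeff s)) =
      algebraMap R (URing R m) (p.coeff s) * s.prod fun x k => ugen R m x ^ k by
        rw [MvPolynomial.monomial_eq, map_mul, map_finsuppProd]
        congr 1]
    exact hprod
  constructor
  · rintro ⟨p, hp, rfl⟩
    exact key d p hp
  · intro hz
    obtain ⟨p, rfl⟩ := Ideal.Quotient.mk_surjective z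
    refine ⟨MvPolynomial.weightedHomogeneousComponent uwt d p,
      MvPolynomial.weightedHomogeneousComponent_mem _ _ _, ?_⟩
    have h := congrArg (wproj R m d ∘ₗ (Ideal.Quotient.mkₐ R (Ideal.span (URel R m))).toLinearMap)
      (MvPolynomial.sum_weightedHomogeneousComponent (R := R) (uwt (m := m)) p)
    have e : wproj R m d (Ideal.Quotient.mk _ p) = Ideal.Quotient.mk (Ideal.span (URel R m)) p := by
      change (grade R m _).coeff d = _
      rw [coeff_grade hz, if_pos rfl]
    refine Eq.trans ?_ e
    refine Eq.trans ?_ h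
    have hfin := MvPolynomial.weightedHomogeneousComponent_finsupp (R := R) (w := uwt (m := m)) p
    rw [finsum_eq_sum _ hfin, map_sum]
    change Ideal.Quotient.mk _ _ = ∑ j ∈ hfin.toFinset, (grade R m (Ideal.Quotient.mk _ _)).coeff d
    rw [Finset.sum_congr rfl fun j _ => coeff_grade (key _ _ (MvPolynomial.weightedHomogeneousComponent_mem _ _ _)),
      Finset.sum_ite_eq]
    split_ifs with hmem
    · rfl
    · rw [Set.Finite.mem_toFinset, Function.mem_support, not_not] at hmem
      rw [hmem, map_zero]

/-- The factor added by one marked point. -/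
noncomputable def stepSeries (m : ℕ) : PowerSeries ℤ :=
  (PowerSeries.mk fun _ => (1 : ℤ)) * (1 + PowerSeries.C ((m + 1 : ℕ) : ℤ) * PowerSeries.X + PowerSeries.X ^ 2)

/-- The weight of a curve monomial. -/
def cdeg {m : ℕ} : Option (ℕ ⊕ (CVar m × ℕ)) → ℕ
  | none => 0
  | some (.inl k) => k + 2
  | some (.inr (_, k)) => k + 1

/-- The variables of the curve. -/
def cvarEquiv (m : ℕ) : CVar m ≃ Option (Option (Fin m)) where
  toFun | .x2 => none | .x3 => some none | .xi i => some (some i)
  invFun | none => .x2 | some none => .x3 | some (some i) => .xi i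
  left_inv y := by cases y <;> rfl
  right_inv y := by rcases y with _ | _ | i <;> rfl

theorem hasSeries_cdeg (m : ℕ) : HasSeries (cdeg (m := m)) (stepSeries m) := by
  intro d
  haveI : Finite (CVar m) := Finite.of_equiv _ (cvarEquiv m).symm
  have hc : Nat.card (CVar m) = m + 2 := by
    rw [Nat.card_congr (cvarEquiv m)]; simp
  have hS : PowerSeries.coeff d (stepSeries m) =
      1 + (if 1 ≤ d then ((m + 1 : ℕ) : ℤ) else 0) + (if 2 ≤ d then 1 else 0) := by
    rw [stepSeries, mul_add, mul_add, mul_one, ← mul_assoc, mul_comm _ (PowerSeries.C _), mul_assoc,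
      map_add, map_add, PowerSeries.coeff_mk, PowerSeries.coeff_C_mul, PowerSeries.coeff_mul_X_pow',
      ← pow_one (PowerSeries.X : PowerSeries ℤ), PowerSeries.coeff_mul_X_pow']
    simp only [PowerSeries.coeff_mk]
    split_ifs <;> simp
  rcases d with _ | _ | d
  · haveI : Unique {t // cdeg (m := m) t = 0} := ⟨⟨⟨none, rfl⟩⟩, fun ⟨t, ht⟩ => by
      rcases t with _ | k | ⟨y, k⟩ <;> first | rfl | simp [cdeg] at ht⟩
    exact ⟨inferInstance, by rw [hS, Nat.card_unique]; simp⟩
  · have E : {t // cdeg (m := m) t = 1} ≃ CVar m :=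
      { toFun := fun t => match t with | ⟨some (.inr (y, _)), _⟩ => y
        invFun := fun y => ⟨some (.inr (y, 0)), rfl⟩
        left_inv := fun ⟨t, ht⟩ => by
          rcases t with _ | k | ⟨y, k⟩
          · simp [cdeg] at ht
          · simp [cdeg] at ht
          · obtain rfl : k = 0 := by simpa [cdeg] using ht
            rfl
        right_inv := fun y => rfl }
    exact ⟨Finite.of_equiv _ E.symm, by rw [hS, Nat.card_congr E, hc]; simp; ring⟩
  · have E : {t // cdeg (m := m) t = d + 2} ≃ Option (CVar m) :=
      { toFun := fun t => match t with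
          | ⟨some (.inr (y, _)), _⟩ => some y
          | ⟨some (.inl _), _⟩ => none
        invFun := fun y => match y with
          | some y => ⟨some (.inr (y, d + 1)), rfl⟩
          | none => ⟨some (.inl d), rfl⟩
        left_inv := fun ⟨t, ht⟩ => by
          rcases t with _ | k | ⟨y, k⟩
          · simp [cdeg] at ht
          · obtain rfl : k = d := by simpa [cdeg] using ht
            rfl
          · obtain rfl : k = d + 1 := by simpa [cdeg] using ht
            rfl
        right_inv := fun y => by cases y <;> rfl }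
    refine ⟨Finite.of_equiv _ E.symm, ?_⟩
    haveI := Fintype.ofFinite (CVar m)
    have hc' : Fintype.card (CVar m) = m + 2 := by rw [← Nat.card_eq_fintype_card]; exact hc
    rw [hS, Nat.card_congr E, Nat.card_eq_fintype_card, Fintype.card_option, hc']
    simp; ring

theorem uhilb_two : uhilb 2 = (PowerSeries.mk fun _ => (1 : ℤ)) ^ 6 := by
  rw [uhilb, Finset.Icc_eq_empty (by omega), Finset.prod_empty, mul_one]

theorem uhilb_succ (hm : 2 ≤ m) : uhilb (m + 1) = uhilb m * stepSeries m := by
  rw [uhilb, uhilb, stepSeries, Finset.prod_Icc_succ_top (by omega : 3 ≤ m + 1), pow_succ]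
  ring

/-- A homogeneous basis counted by the Hilbert series. -/
theorem exists_graded_basis (m : ℕ) (hm : 2 ≤ m) :
    ∃ (ι : Type) (b : Module.Basis ι ℤ (URing ℤ m)) (deg : ι → ℕ),
      (∀ i, IsHom (deg i) (b i)) ∧ HasSeries deg (uhilb m) := by
  induction m, hm using Nat.le_induction with
  | base =>
    let e := AlgEquiv.ofBijective _ Groth.Agent.S18247.result
    let B := (MvPolynomial.basisMonomials (Fin 6) ℤ).map e.toLinearEquiv
    refine ⟨Fin 6 →₀ ℕ, B, fun s => ∑ i, s i, fun s => ?_, ?_⟩
    · set w : Fin 6 → URing ℤ 2 := ![ugen ℤ 2 .a, ugen ℤ 2 (.ci 0), ugen ℤ 2 (.cbi 0), ugen ℤ 2 (.ci 1),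
        ugen ℤ 2 (.cbi 1), ugen ℤ 2 (.cij 0 1 Fin.zero_ne_one)] with hw
      have hB : B s = ∏ i, w i ^ s i := by
        change MvPolynomial.aeval (R := ℤ) w ((MvPolynomial.basisMonomials (Fin 6) ℤ) s) = _
        rw [MvPolynomial.coe_basisMonomials, MvPolynomial.aeval_monomial, map_one, one_mul,
          Finsupp.prod_fintype _ _ fun i => pow_zero _]
      rw [hB]
      have h1 : ∀ i, IsHom 1 (w i) := fun i => by
        fin_cases i <;> exact isHom_ugen _
      have h2 : ∀ T : Finset (Fin 6), IsHom (∑ x ∈ T, s x) (∏ x ∈ T, w x ^ s x) := by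
        intro T
        induction T using Finset.induction with
        | empty => simpa using isHom_one
        | insert a T ha ih =>
          rw [Finset.sum_insert ha, Finset.prod_insert ha]
          exact ((h1 a).pow (s a)).mul ih |> fun h => by simpa using h
      exact h2 Finset.univ
    · rw [uhilb_two]
      exact (hasSeries_fin 6).congr Finsupp.equivFunOnFinite fun s => rfl
  | succ m hm ih =>
    obtain ⟨ι, b, deg, hb, hs⟩ := ih
    let i0 : Fin m := ⟨0, by omega⟩
    letI : Algebra (URing ℤ m) (URing ℤ (m + 1)) := (W4c5m1nsnscurves.uincl ℤ m).toRingHom.toAlgebra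
    haveI : IsScalarTower ℤ (URing ℤ m) (URing ℤ (m + 1)) :=
      IsScalarTower.of_algebraMap_eq fun r => ((W4c5m1nsnscurves.uincl ℤ m).commutes r).symm
    let e : CurveAlg (URing ℤ m) m (ugen ℤ m) ≃ₐ[URing ℤ m] URing ℤ (m + 1) :=
      AlgEquiv.ofRingEquiv (f := succEquiv ℤ m) (fwd_algebraMap ℤ m)
    let B := (Module.Basis.mk (indep_cmon (ugen ℤ m) sat_ugen i0)
      (span_cmon_eq_top (ugen ℤ m) i0).ge).map e.toLinearEquiv
    refine ⟨ι × Option (ℕ ⊕ (CVar m × ℕ)), b.smulTower B, fun p => deg p.1 + cdeg p.2, fun p => ?_, ?_⟩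
    · rw [Module.Basis.smulTower_apply, Algebra.smul_def]
      refine (hb p.1).uincl.mul ?_
      have hB : B p.2 = fwd ℤ m (cmon (URing ℤ m) m (ugen ℤ m) p.2) := by
        simp only [B, Module.Basis.map_apply, Module.Basis.mk_apply]; rfl
      rw [hB]
      have hv : ∀ y, IsHom 1 (fwdVal ℤ m y) := fun y => by
        match y with
        | .x2 => exact isHom_ugen _
        | .x3 => exact ((isHom_ugen (R := ℤ) (.a)).add (isHom_ugen (.ci (Fin.last m)))).add (isHom_ugen (.cbi (Fin.last m)))
        | .xi i => exact isHom_ugen _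
      have hax : ∀ y, fwd ℤ m (ax (ugen ℤ m) y) = fwdVal ℤ m y := fwd_cx ℤ m
      match p.2 with
      | none => rw [cmon_none, map_one]; exact isHom_one
      | some (.inl k) =>
        rw [cmon_inl, map_mul, map_pow, hax, hax]
        have h := ((hv .x2).pow (k + 1)).mul (hv .x3)
        rw [one_mul] at h
        exact h
      | some (.inr (y, k)) =>
        rw [cmon_pow, map_pow, hax]
        have h := (hv y).pow (k + 1)
        rw [one_mul] at h
        exact h
    · rw [uhilb_succ hm]
      exact hs.prod (hasSeries_cdeg m)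

theorem upiece_basis {ι : Type} (b : Module.Basis ι ℤ (URing ℤ m)) (deg : ι → ℕ)
    (hb : ∀ i, IsHom (deg i) (b i)) :
    DirectSum.IsInternal (upiece ℤ m) ∧
      ∀ d, Module.finrank ℤ (upiece ℤ m d) = Nat.card {i // deg i = d} := by
  classical
  have hproj : ∀ d e, ∀ z ∈ upiece ℤ m e, wproj ℤ m d z = if d = e then z else 0 := fun d e z hz =>
    coeff_grade ((mem_upiece_iff e z).1 hz)
  refine ⟨?_, fun d => ?_⟩
  · rw [DirectSum.isInternal_submodule_iff_iSupIndep_and_iSup_eq_top]
    refine ⟨fun d => ?_, ?_⟩
    · rw [Submodule.disjoint_def]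
      intro z hz hz'
      have h1 : wproj ℤ m d z = z := by rw [hproj d d z hz, if_pos rfl]
      have h2 : (⨆ (j) (_ : j ≠ d), upiece ℤ m j) ≤ LinearMap.ker (wproj ℤ m d) :=
        iSup₂_le fun j hj x hx => by rw [LinearMap.mem_ker, hproj d j x hx, if_neg (Ne.symm hj)]
      rw [← h1]; exact h2 hz'
    · rw [eq_top_iff, ← b.span_eq, Submodule.span_le]
      rintro _ ⟨i, rfl⟩
      exact Submodule.mem_iSup_of_mem (deg i) ((mem_upiece_iff _ _).2 (hb i))
  · have hspan : upiece ℤ m d = Submodule.span ℤ (Set.range fun i : {i // deg i = d} => b i) := by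
      refine le_antisymm (fun z hz => ?_) (Submodule.span_le.2 ?_)
      · have h1 : wproj ℤ m d z = z := by rw [hproj d d z hz, if_pos rfl]
        rw [← h1, ← b.linearCombination_repr z, Finsupp.linearCombination_apply, Finsupp.sum, map_sum]
        refine Submodule.sum_mem _ fun i _ => ?_
        rw [map_smul, hproj d (deg i) _ ((mem_upiece_iff _ _).2 (hb i))]
        refine Submodule.smul_mem _ _ ?_
        split_ifs with h
        · exact Submodule.subset_span ⟨⟨i, h.symm⟩, rfl⟩
        · exact zero_mem _
      · rintro _ ⟨⟨i, rfl⟩, rfl⟩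
        exact (mem_upiece_iff _ _).2 (hb i)
    rw [hspan]
    exact Module.finrank_eq_nat_card_basis
      (Module.Basis.span (b.linearIndependent.comp _ Subtype.val_injective))

end Groth.Agent.M1CurvLib
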