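import Groth.Agent.M1CurvLib.Basic

/-!
# The tangent space of `U_n` at the origin
-/

universe u

namespace Groth.Agent.M1CurvLib

open W4c5m1nsnscurves

variable {R : Type u} [CommRing R] {m : ℕ}

/-- The weight-one generators `a`, `c_i`, `c̄_i`, `c_{ij}` (`i < j`). -/
abbrev LinGen (m : ℕ) : Type := Option ((Fin m ⊕ Fin m) ⊕ {q : Fin m × Fin m // q.1 < q.2})

/-- As generators. -/
def linGen : LinGen m → UGen m
  | none => .a
  | some (.inl (.inl i)) => .ci i
  | some (.inl (.inr i)) => .cbi i
  | some (.inr q) => .cij q.1.1 q.1.2 (ne_of_lt q.2)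

theorem card_linGen (m : ℕ) : Fintype.card (LinGen m) = (m + 2) * (m + 1) / 2 := by
  have h : Fintype.card {q : Fin m × Fin m // q.1 < q.2} * 2 + m = m * m := by
    have h1 := Fintype.card_subtype_compl (fun q : Fin m × Fin m => q.1 < q.2)
    have h2 : Fintype.card {q : Fin m × Fin m // q.1 < q.2} = Fintype.card {q : Fin m × Fin m // q.2 < q.1} :=
      Fintype.card_congr ((Equiv.prodComm _ _).subtypeEquiv fun q => Iff.rfl)
    have h3 : Fintype.card {q : Fin m × Fin m // ¬ q.1 < q.2} =
        Fintype.card {q : Fin m × Fin m // q.2 < q.1} + Fintype.card {q : Fin m × Fin m // q.1 = q.2} := by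
      rw [← Fintype.card_subtype_or_disjoint]
      · exact Fintype.card_congr (Equiv.subtypeEquivRight fun q => by
          rw [not_lt, le_iff_lt_or_eq, eq_comm (a := q.2)])
      · rw [Pi.disjoint_iff]
        intro q
        rw [Prop.disjoint_iff]
        rintro ⟨a, b⟩
        exact absurd b.symm (ne_of_lt a)
    have h4 : Fintype.card {q : Fin m × Fin m // q.1 = q.2} = m := by
      refine (Fintype.card_congr ⟨fun q => q.1.1, fun i => ⟨(i, i), rfl⟩, fun q => ?_, fun i => rfl⟩).trans
        (Fintype.card_fin m)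
      exact Subtype.ext (Prod.ext rfl q.2)
    have h5 := Fintype.card_subtype_le (fun q : Fin m × Fin m => q.1 < q.2)
    simp only [Fintype.card_prod, Fintype.card_fin] at h1 h5
    omega
  have h' : (m + 2) * (m + 1) = m * m + 3 * m + 2 := by ring
  simp only [Fintype.card_option, Fintype.card_sum, Fintype.card_fin]
  omega

/-- `U_n` is generated by the weight-one generators. -/
theorem ugen_mem_adjoin (hm : 2 ≤ m) (x : UGen m) :
    ugen R m x ∈ Algebra.adjoin R (Set.range fun t : LinGen m => ugen R m (linGen t)) := by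
  set B := Algebra.adjoin R (Set.range fun t : LinGen m => ugen R m (linGen t))
  have hg : ∀ t : LinGen m, ugen R m (linGen t) ∈ B := fun t => Algebra.subset_adjoin ⟨t, rfl⟩
  have hci : ∀ i, ugen R m (.ci i) ∈ B := fun i => hg (some (.inl (.inl i)))
  have hcbi : ∀ i, ugen R m (.cbi i) ∈ B := fun i => hg (some (.inl (.inr i)))
  obtain ⟨h1, h2, h3, -⟩ := sat_ugen (R := R) (m := m)
  have hlt : ∀ i j (h : i ≠ j), i < j → ugen R m (.cij i j h) ∈ B := fun i j h hl => hg (some (.inr ⟨(i, j), hl⟩))
  have hcij : ∀ i j (h : i ≠ j), ugen R m (.cij i j h) ∈ B := fun i j h => by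
    rcases lt_or_gt_of_ne h with hl | hl
    · exact hlt i j h hl
    · rw [eq_sub_of_add_eq (h1 i j h)]
      exact sub_mem (add_mem (add_mem (add_mem (add_mem (hg none) (hci i)) (hcbi i)) (hci j)) (hcbi j))
        (hlt j i h.symm hl)
  let i : Fin m := ⟨0, by omega⟩
  let j : Fin m := ⟨1, by omega⟩
  have hij : i ≠ j := by simp [i, j, Fin.ext_iff]
  match x with
  | .a => exact hg none
  | .ci i => exact hci i
  | .cbi i => exact hcbi i
  | .cij i j h => exact hcij i j h
  | .c =>
    rw [← h2 i j hij]
    exact sub_mem (add_mem (mul_mem (hcij _ _ _) (hci _)) (mul_mem (hcij _ _ _) (hci _)))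
      (mul_mem (hci _) (hci _))
  | .cb =>
    rw [← h3 i j hij]
    exact sub_mem (add_mem (mul_mem (hcij _ _ _) (hcbi _)) (mul_mem (hcij _ _ _) (hcbi _)))
      (mul_mem (hcbi _) (hcbi _))

theorem adjoin_linGen_eq_top (hm : 2 ≤ m) :
    Algebra.adjoin R (Set.range fun t : LinGen m => ugen R m (linGen t)) = ⊤ := by
  rw [eq_top_iff]
  rintro z -
  obtain ⟨p, rfl⟩ := Ideal.Quotient.mk_surjective z
  induction p using MvPolynomial.induction_on with
  | C r => exact Subalgebra.algebraMap_mem _ r
  | add p q hp hq => rw [map_add]; exact add_mem hp hq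
  | mul_X p s hp => rw [map_mul]; exact mul_mem hp (ugen_mem_adjoin hm s)

/-- The tangent space at the origin. -/
theorem finrank_cotangent (k : Type u) [Field k] (hm : 2 ≤ m) :
    Module.finrank k (uorigin k m).Cotangent = (m + 2) * (m + 1) / 2 := by
  classical
  have hsmI : ∀ (r : k) (x : uorigin k m), (uorigin k m).toCotangent (algebraMap k (URing k m) r • x) =
      r • (uorigin k m).toCotangent x := fun r x => by
    change _ = (uorigin k m).toCotangent (r • x)
    exact congrArg _ (algebraMap_smul (URing k m) r x)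
  let V := LinGen m → k
  let e : LinGen m → V := fun t => Pi.single t 1
  let lin : UGen m → V := fun
    | .a => e none
    | .c => 0
    | .cb => 0
    | .ci i => e (some (.inl (.inl i)))
    | .cbi i => e (some (.inl (.inr i)))
    | .cij i j h => if hl : i < j then e (some (.inr ⟨(i, j), hl⟩)) else
        e none + e (some (.inl (.inl i))) + e (some (.inl (.inr i))) + e (some (.inl (.inl j))) +
          e (some (.inl (.inr j))) - e (some (.inr ⟨(j, i), lt_of_le_of_ne (not_lt.1 hl) h.symm⟩))
  let g : UGen m → TrivSqZeroExt k V := fun x => TrivSqZeroExt.inr (lin x)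
  have hsat : Sat g := by
    refine ⟨fun i j h => ?_, fun i j h => ?_, fun i j h => ?_, fun i j l a b c => ?_⟩
    · simp only [g, ← TrivSqZeroExt.inr_add]
      congr 1
      rcases lt_or_gt_of_ne h with hl | hl
      · simp only [lin, dif_pos hl, dif_neg (not_lt.2 hl.le)]; abel
      · simp only [lin, dif_pos hl, dif_neg (not_lt.2 hl.le)]; abel
    · simp only [g, TrivSqZeroExt.inr_mul_inr]; simp [lin]
    · simp only [g, TrivSqZeroExt.inr_mul_inr]; simp [lin]
    · simp only [g, TrivSqZeroExt.inr_mul_inr, add_mul]; simp [lin]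
  let ψ := ulift (algebraMap k (TrivSqZeroExt k V)) g hsat
  have hψ : ∀ x, ψ (ugen k m x) = TrivSqZeroExt.inr (lin x) := ulift_ugen _ g hsat
  have hψr : ∀ r, ψ (algebraMap k _ r) = algebraMap k (TrivSqZeroExt k V) r := ulift_algebraMap _ g hsat
  have hfst : ∀ z ∈ uorigin k m, (ψ z).fst = 0 := by
    intro z hz
    induction hz using Submodule.span_induction with
    | mem q hq => obtain ⟨x, rfl⟩ := hq; rw [hψ, TrivSqZeroExt.fst_inr]
    | zero => rw [map_zero, TrivSqZeroExt.fst_zero]
    | add a b _ _ ha hb => rw [map_add, TrivSqZeroExt.fst_add, ha, hb, add_zero]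
    | smul r a _ ha => rw [smul_eq_mul, map_mul, TrivSqZeroExt.fst_mul, ha, mul_zero]
  have hsq : ∀ z ∈ uorigin k m ^ 2, (ψ z).snd = 0 := by
    intro z hz
    rw [pow_two] at hz
    induction hz using Submodule.mul_induction_on' with
    | mem_mul_mem a ha b hb =>
      rw [map_mul, TrivSqZeroExt.snd_mul, hfst a ha, hfst b hb, zero_smul, MulOpposite.op_zero, zero_smul, add_zero]
    | add a _ b _ ha hb => rw [map_add, TrivSqZeroExt.snd_add, ha, hb, add_zero]
  have hdecomp : ∀ a : URing k m, ∃ r : k, a - algebraMap k _ r ∈ uorigin k m := by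
    intro a
    obtain ⟨p, rfl⟩ := Ideal.Quotient.mk_surjective a
    induction p using MvPolynomial.induction_on with
    | C r =>
      refine ⟨r, ?_⟩
      rw [show Ideal.Quotient.mk _ (MvPolynomial.C r) = algebraMap k (URing k m) r from rfl, sub_self]
      exact zero_mem _
    | add p q hp hq =>
      obtain ⟨r, hr⟩ := hp
      obtain ⟨r', hr'⟩ := hq
      exact ⟨r + r', by rw [map_add, map_add, add_sub_add_comm]; exact add_mem hr hr'⟩
    | mul_X p s _ =>
      exact ⟨0, by rw [map_zero, sub_zero, map_mul]; exact Ideal.mul_mem_left _ _ (Ideal.subset_span ⟨s, rfl⟩)⟩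
  have hgen : ∀ t : LinGen m, ugen k m (linGen t) ∈ uorigin k m := fun t => Ideal.subset_span ⟨_, rfl⟩
  let J : V →ₗ[k] (uorigin k m).Cotangent :=
    Fintype.linearCombination k fun t => (uorigin k m).toCotangent ⟨_, hgen t⟩
  have hlin : ∀ t, lin (linGen t) = e t := fun t => by
    match t with
    | none => rfl
    | some (.inl (.inl i)) => rfl
    | some (.inl (.inr i)) => rfl
    | some (.inr ⟨(i, j), hl⟩) => simp only [linGen, lin]; rw [dif_pos hl]
  have hinj : Function.Injective J := by
    rw [injective_iff_map_eq_zero]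
    intro w hw
    have h : (∑ t, w t • ugen k m (linGen t)) ∈ uorigin k m ^ 2 := by
      rw [show (∑ t, w t • ugen k m (linGen t)) =
        ((∑ t, w t • (⟨_, hgen t⟩ : uorigin k m) : uorigin k m) : URing k m) from by
          rw [AddSubmonoidClass.coe_finsetSum]; rfl]
      rw [← Ideal.toCotangent_eq_zero, map_sum, ← hw, Fintype.linearCombination_apply]
      refine Finset.sum_congr rfl fun t _ => ?_
      rw [← hsmI, algebraMap_smul]
    have h' := hsq _ h
    rw [map_sum, TrivSqZeroExt.snd_sum] at h'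
    rw [pi_eq_sum_univ' w]
    refine Eq.trans (Finset.sum_congr rfl fun t _ => ?_) h'
    let ψA : URing k m →ₐ[k] TrivSqZeroExt k V := { ψ with commutes' := hψr }
    rw [show ψ (w t • ugen k m (linGen t)) = w t • ψ (ugen k m (linGen t)) from map_smul ψA _ _,
      TrivSqZeroExt.snd_smul, hψ, TrivSqZeroExt.snd_inr, hlin]
  have hgenspan : uorigin k m ≤ Ideal.span (Set.range fun t : LinGen m => ugen k m (linGen t)) := by
    refine Ideal.span_le.2 ?_
    rintro _ ⟨x, rfl⟩
    obtain ⟨h1, h2, h3, -⟩ := sat_ugen (R := k) (m := m)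
    set P := Ideal.span (Set.range fun t : LinGen m => ugen k m (linGen t))
    have hg : ∀ t : LinGen m, ugen k m (linGen t) ∈ P := fun t => Ideal.subset_span ⟨t, rfl⟩
    have hci : ∀ i, ugen k m (.ci i) ∈ P := fun i => hg (some (.inl (.inl i)))
    have hcbi : ∀ i, ugen k m (.cbi i) ∈ P := fun i => hg (some (.inl (.inr i)))
    let i : Fin m := ⟨0, by omega⟩
    let j : Fin m := ⟨1, by omega⟩
    have hij : i ≠ j := by simp [i, j, Fin.ext_iff]
    match x with
    | .a => exact hg none
    | .ci i => exact hci i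
    | .cbi i => exact hcbi i
    | .cij i j h =>
      rcases lt_or_gt_of_ne h with hl | hl
      · exact hg (some (.inr ⟨(i, j), hl⟩))
      · rw [eq_sub_of_add_eq (h1 i j h)]
        exact sub_mem (add_mem (add_mem (add_mem (add_mem (hg none) (hci i)) (hcbi i)) (hci j)) (hcbi j))
          (hg (some (.inr ⟨(j, i), hl⟩)))
    | .c =>
      rw [← h2 i j hij]
      exact sub_mem (add_mem (P.mul_mem_left _ (hci _)) (P.mul_mem_left _ (hci _))) (P.mul_mem_left _ (hci _))
    | .cb =>
      rw [← h3 i j hij]
      exact sub_mem (add_mem (P.mul_mem_left _ (hcbi _)) (P.mul_mem_left _ (hcbi _))) (P.mul_mem_left _ (hcbi _))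
  have hsurj : Function.Surjective J := by
    intro z
    obtain ⟨⟨r, hr⟩, rfl⟩ := Ideal.toCotangent_surjective _ z
    suffices h : ∀ r ∈ Ideal.span (Set.range fun t : LinGen m => ugen k m (linGen t)),
        ∃ hr : r ∈ uorigin k m, (uorigin k m).toCotangent ⟨r, hr⟩ ∈ LinearMap.range J by
      exact (h r (hgenspan hr)).2
    intro r hr
    induction hr using Submodule.span_induction with
    | mem q hq =>
      obtain ⟨t, rfl⟩ := hq
      exact ⟨hgen t, Pi.single t 1, (Fintype.linearCombination_apply_single k _ t 1).trans (one_smul _ _)⟩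
    | zero => exact ⟨zero_mem _, 0, by rw [map_zero]; exact (map_zero (uorigin k m).toCotangent).symm⟩
    | add a b _ _ ha hb =>
      obtain ⟨ha, ha'⟩ := ha
      obtain ⟨hb, hb'⟩ := hb
      exact ⟨add_mem ha hb, by simpa [← map_add] using add_mem ha' hb'⟩
    | smul c a _ ha =>
      obtain ⟨ha, ha'⟩ := ha
      obtain ⟨c0, hc0⟩ := hdecomp c
      refine ⟨Ideal.mul_mem_left _ c ha, ?_⟩
      have h : (uorigin k m).toCotangent ⟨c • a, Ideal.mul_mem_left _ c ha⟩ =
          c0 • (uorigin k m).toCotangent ⟨a, ha⟩ := by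
        rw [← hsmI, Ideal.toCotangent_eq, pow_two]
        change c * a - algebraMap k (URing k m) c0 * a ∈ _
        rw [← sub_mul]
        exact Ideal.mul_mem_mul hc0 ha
      rw [h]; exact Submodule.smul_mem _ _ ha'
  rw [← (LinearEquiv.ofBijective J ⟨hinj, hsurj⟩).finrank_eq, Module.finrank_pi, card_linGen]

end Groth.Agent.M1CurvLib
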